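/-
Kernel-evaluated certificates about `J₁`.
-/
import Cfsg.Agent.Janko1.Data

set_option autoImplicit false

namespace Cfsg.Agent.Janko1

/-- The product of a word in the two generators (`true` is the second one). -/
def wordM : List Bool → M7
  | [] => oneM
  | g :: w => mulM (bif g then gY else gX) (wordM w)

/-- Iterated product. -/
def powM (A : M7) : ℕ → M7
  | 0 => oneM
  | n + 1 => mulM A (powM A n)

/-- The `i`-th digit in base eight. -/
def dig8 (c i : ℕ) : ℕ := c / 8 ^ i % 8

/-- The images of the two A₅ generators, in base eight. -/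
def permCodeC : ℕ := 1 + 8 * 0 + 64 * 3 + 512 * 2 + 4096 * 4

/-- The images of the two A₅ generators, in base eight. -/
def permCodeD : ℕ := 0 + 8 * 2 + 64 * 4 + 512 * 3 + 4096 * 1

/-- Test of one element of the point stabiliser. -/
def hTest (k : ℕ) : Bool :=
  okM (hMatAt k) && Nat.blt (hNextAAt k) 660 && Nat.blt (hNextBAt k) 660 &&
    M7.beq (mulM elA (hMatAt k)) (hMatAt (hNextAAt k)) &&
    M7.beq (mulM elB (hMatAt k)) (hMatAt (hNextBAt k)) &&
    (k == 0 || (Nat.blt (hParAt k / 2) k &&
      (bif hParAt k % 2 == 0 then hNextAAt (hParAt k / 2) else hNextBAt (hParAt k / 2)) == k))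

/-- Test of one coset representative. -/
def tTest (i : ℕ) : Bool :=
  okM (tMatAt i) && Nat.blt (tNextXAt i / 1024) 266 && Nat.blt (tNextXAt i % 1024) 660 &&
    Nat.blt (tNextYAt i / 1024) 266 && Nat.blt (tNextYAt i % 1024) 660 &&
    M7.beq (mulM gX (tMatAt i)) (mulM (tMatAt (tNextXAt i / 1024)) (hMatAt (tNextXAt i % 1024))) &&
    M7.beq (mulM gY (tMatAt i)) (mulM (tMatAt (tNextYAt i / 1024)) (hMatAt (tNextYAt i % 1024))) &&
    (i == 0 || (Nat.blt (tParAt i / 2) i &&
      (bif tParAt i % 2 == 0 then tNextXAt (tParAt i / 2) else tNextYAt (tParAt i / 2)) == i * 1024))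

/-- Test of one element of the A₅ subgroup. -/
def aTest (k : ℕ) : Bool :=
  okM (aMatAt k) && Nat.blt (aNextCAt k) 60 && Nat.blt (aNextDAt k) 60 &&
    M7.beq (mulM elC (aMatAt k)) (aMatAt (aNextCAt k)) &&
    M7.beq (mulM elD (aMatAt k)) (aMatAt (aNextDAt k)) &&
    (k == 0 || (Nat.blt (aParAt k / 2) k &&
      (bif aParAt k % 2 == 0 then aNextCAt (aParAt k / 2) else aNextDAt (aParAt k / 2)) == k)) &&
    allFrom (fun i => Nat.blt (dig8 (aPermAt k) i) 5 &&
      dig8 permCodeC (dig8 (aPermAt k) i) == dig8 (aPermAt (aNextCAt k)) i &&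
      dig8 permCodeD (dig8 (aPermAt k) i) == dig8 (aPermAt (aNextDAt k)) i) 0 5 &&
    M7.beq (mulM elT (aMatAt k)) (mulM (aMatAt k) elT) && !M7.beq (aMatAt k) elT &&
    allFrom (fun l => !M7.beq (aMatAt k) (aMatAt l) && !(allFrom (fun i => dig8 (aPermAt k) i == dig8 (aPermAt l) i) 0 5)) 0 k

/-- Test of one conjugate of the involution. -/
def cTest (j : ℕ) : Bool :=
  okM (cMatAt j) &&
    (j == 0 || (Nat.blt (cParAt j / 2) j &&
      M7.beq (mulM (cMatAt j) (bif cParAt j % 2 == 0 then gX else gY))
        (mulM (bif cParAt j % 2 == 0 then gX else gY) (cMatAt (cParAt j / 2))))) &&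
    allFrom (fun l => !M7.beq (cMatAt j) (cMatAt l)) 0 j

set_option maxRecDepth 10000

theorem okM_oneM : okM oneM = true := by decide +kernel

theorem elAWord_ok : M7.beq (wordM elAWord) elA = true := by decide +kernel

theorem elBWord_ok : M7.beq (wordM elBWord) elB = true := by decide +kernel

theorem elTWord_ok : M7.beq (wordM elTWord) elT = true := by decide +kernel

theorem elCWord_ok : M7.beq (wordM elCWord) elC = true := by decide +kernel

theorem elDWord_ok : M7.beq (wordM elDWord) elD = true := by decide +kernel

theorem elSWord_ok : M7.beq (wordM elSWord) elS = true := by decide +kernel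

theorem el19Word_ok : M7.beq (wordM el19Word) el19 = true := by decide +kernel

theorem el11Word_ok : M7.beq (wordM el11Word) el11 = true := by decide +kernel

theorem hMat_zero : M7.beq (hMatAt 0) oneM = true := by decide +kernel

theorem tMat_zero : M7.beq (tMatAt 0) oneM = true := by decide +kernel

theorem aMat_zero : M7.beq (aMatAt 0) oneM = true := by decide +kernel

theorem aPerm_zero : (aPermAt 0 == 0 + 8 * 1 + 64 * 2 + 512 * 3 + 4096 * 4) = true := by decide +kernel

theorem cMat_zero : M7.beq (cMatAt 0) elT = true := by decide +kernel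

theorem gX_pow : M7.beq (powM gX 7) oneM = true := by decide +kernel

theorem gX_ne : (!M7.beq gX oneM) = true := by decide +kernel

theorem elT_sq : M7.beq (mulM elT elT) oneM = true := by decide +kernel

theorem elT_ne : (!M7.beq elT oneM) = true := by decide +kernel

theorem el19_pow : M7.beq (powM el19 19) oneM = true := by decide +kernel

theorem el19_ne : (!M7.beq el19 oneM) = true := by decide +kernel

theorem el11_pow : M7.beq (powM el11 11) oneM = true := by decide +kernel

theorem el11_ne : (!M7.beq el11 oneM) = true := by decide +kernel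

theorem el19_conj : allFrom (fun k => !M7.beq (mulM gX el19) (mulM (powM el19 k) gX)) 0 19 = true := by decide +kernel

theorem conj_one : M7.beq (mulM (mulM elS elT) (powM elS 6)) conj1 = true := by decide +kernel

theorem conj_two : M7.beq (mulM (mulM elS conj1) (powM elS 6)) conj2 = true := by decide +kernel

theorem conj_three : M7.beq (mulM (mulM elS conj2) (powM elS 6)) (mulM elT conj1) = true := by decide +kernel

theorem elS_pow : M7.beq (powM elS 7) oneM = true := by decide +kernel

theorem comm01 : M7.beq (mulM elT conj1) (mulM conj1 elT) = true := by decide +kernel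

theorem comm02 : M7.beq (mulM elT conj2) (mulM conj2 elT) = true := by decide +kernel

theorem comm12 : M7.beq (mulM conj1 conj2) (mulM conj2 conj1) = true := by decide +kernel

theorem fours_ne : allFrom (fun k => k == 0 || !M7.beq (mulM (powM elT (k % 2)) (mulM (powM conj1 (k / 2 % 2)) (powM conj2 (k / 4)))) oneM) 0 8 = true := by decide +kernel

theorem h_ok : allFrom hTest 0 660 = true := by decide +kernel

theorem t_ok : allFrom tTest 0 266 = true := by decide +kernel

theorem a_ok : allFrom aTest 0 60 = true := by decide +kernel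

theorem c_ok : allFrom cTest 0 210 = true := by decide +kernel

end Cfsg.Agent.Janko1
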