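/-
Kernel-evaluated certificate that every automorphism of `J₁` is inner.
-/
import Cfsg.Agent.Janko1.Checks
import Cfsg.Agent.Janko1.AutData

set_option autoImplicit false

namespace Cfsg.Agent.Janko1

/-- Some number below `n` starting at `lo` passes a test. -/
def anyFrom (f : ℕ → Bool) (lo n : ℕ) : Bool := !allFrom (fun i => !f i) lo n

theorem anyFrom_zero {f : ℕ → Bool} {n : ℕ} (h : anyFrom f 0 n = true) : ∃ i, i < n ∧ f i = true := by
  by_contra hc
  push Not at hc
  simp only [anyFrom, Bool.not_eq_true'] at h
  rw [allFrom_iff.mpr fun i _ hi => by simp [hc i (by omega)]] at h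
  exact Bool.noConfusion h

/-- The `i`-th element of the centraliser of the involution. -/
def centAt (i : ℕ) : M7 := mulM (powM elT (i / 60)) (aMatAt (i % 60))

/-- The candidates for the image of the element of order seven. -/
def candAt (j : ℕ) : M7 := mulM (powM elS (bif j / 120 == 0 then 1 else 3)) (centAt (j % 120))

/-- A word in two elements (`true` is the second one). -/
def word2 (C G : M7) : List Bool → M7
  | [] => oneM
  | g :: w => mulM (bif g then G else C) (word2 C G w)

/-- Distinctness in the centraliser. -/
def centTest (i : ℕ) : Bool :=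
  allFrom (fun l => !M7.beq (centAt i) (centAt l)) 0 i &&
    (!M7.beq (mulM (centAt i) (centAt i)) oneM || i == 0 || M7.beq (centAt i) elT ||
      anyFrom (fun l => M7.beq (mulM (aMatAt l) (centAt i)) (mulM conj1 (aMatAt l)) ||
        M7.beq (mulM (aMatAt l) (centAt i)) (mulM (mulM elT conj1) (aMatAt l))) 0 60) &&
    (!M7.beq (powM (centAt i) 5) oneM || i == 0 ||
      anyFrom (fun k => M7.beq (centAt i) (fiveAt k)) 0 24)

/-- Completeness of the list of candidates of order seven. -/
def candTest (j : ℕ) : Bool :=
  !M7.beq (powM (candAt j) 7) oneM || anyFrom (fun k => M7.beq (candAt j) (sevenAt k)) 0 32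

/-- The relations satisfied by the pair. -/
def relTest (C G : M7) : Bool :=
  M7.beq (powM (word2 C G [false, true, true]) 6) oneM &&
    M7.beq (powM (word2 C G [false, true, true, true]) 7) oneM &&
    M7.beq (powM (word2 C G [false, true]) 15) oneM &&
    M7.beq (powM (word2 C G [false, false, true]) 11) oneM &&
    M7.beq (powM (word2 C G [false, false, true, false, true, true]) 5) oneM

/-- A pair with the relations is conjugate to the given one. -/
def pairTest (k : ℕ) : Bool :=
  !relTest (fiveAt (k / 32)) (sevenAt (k % 32)) ||
    anyFrom (fun h => Nat.blt (resIdxAt h) 120 &&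
      M7.beq (mulM (centAt (resIdxAt h)) genF) (mulM (fiveAt (k / 32)) (centAt (resIdxAt h))) &&
      M7.beq (mulM (centAt (resIdxAt h)) elS) (mulM (sevenAt (k % 32)) (centAt (resIdxAt h)))) 0 8

set_option maxRecDepth 10000

theorem cent_ok : allFrom centTest 0 120 = true := by decide +kernel

theorem cand_ok : allFrom candTest 0 240 = true := by decide +kernel

theorem pair_ok : allFrom pairTest 0 768 = true := by decide +kernel

theorem rel_ok : relTest genF elS = true := by decide +kernel

theorem genF_ok : (M7.beq (centAt genFIdx) genF && M7.beq (powM genF 5) oneM && !M7.beq genF oneM &&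
    Nat.blt genFIdx 120) = true := by decide +kernel

theorem gXWord_ok : M7.beq (word2 genF elS gXWord) gX = true := by decide +kernel

theorem gYWord_ok : M7.beq (word2 genF elS gYWord) gY = true := by decide +kernel

theorem four_conj_ok : allFrom (fun k => k == 0 || anyFrom (fun m =>
    M7.beq (mulM (powM elS m) elT)
      (mulM (mulM (powM elT (k % 2)) (mulM (powM conj1 (k / 2 % 2)) (powM conj2 (k / 4))))
        (powM elS m))) 0 7) 0 8 = true := by decide +kernel

end Cfsg.Agent.Janko1
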