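/-
Reading the certificates in the group `J₁`, and the order and simplicity of `J₁`.
-/
import Cfsg.Prelude.Def_Spor_J1
import Cfsg.Agent.Janko1.Checks
import Cfsg.Agent.S4274
import Mathlib.GroupTheory.OrderOfElement
import Mathlib.GroupTheory.Coset.Card
import Mathlib.Algebra.Group.Subgroup.Pointwise
import Mathlib.GroupTheory.Sylow

set_option autoImplicit false

namespace Cfsg.Agent.Janko1

/-- The group `J₁`. -/
abbrev J : Type := ↥Cfsg.Spor.J1

/-- The element `g` is given by the packed matrix `A`. -/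
def Rep (g : J) (A : M7) : Prop :=
  ((g : GL (Fin 7) (ZMod 11)) : Matrix (Fin 7) (Fin 7) (ZMod 11)) = toMat A ∧ okM A = true

theorem okRow_pack {c0 c1 c2 c3 c4 c5 c6 : ℕ} (h0 : c0 < 11) (h1 : c1 < 11) (h2 : c2 < 11)
    (h3 : c3 < 11) (h4 : c4 < 11) (h5 : c5 < 11) (h6 : c6 < 11) :
    okRow (c0 + 1024 * c1 + 1048576 * c2 + 1073741824 * c3 + 1099511627776 * c4 +
      1125899906842624 * c5 + 1152921504606846976 * c6) = true := by
  simp only [okRow, Bool.and_eq_true, decide_eq_true_eq]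
  refine ⟨⟨⟨⟨⟨⟨?_, ?_⟩, ?_⟩, ?_⟩, ?_⟩, ?_⟩, ?_⟩ <;> omega

theorem okRow_norm7 (a : ℕ) : okRow (norm7 a) = true :=
  okRow_pack (Nat.mod_lt _ (by decide)) (Nat.mod_lt _ (by decide)) (Nat.mod_lt _ (by decide))
    (Nat.mod_lt _ (by decide)) (Nat.mod_lt _ (by decide)) (Nat.mod_lt _ (by decide))
    (Nat.mod_lt _ (by decide))

theorem okM_mulM (A B : M7) : okM (mulM A B) = true := by
  simp [okM, mulM, rowMul, okRow_norm7]

theorem toMat_oneM : toMat oneM = 1 := by decide +kernel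

theorem toMat_gX : toMat gX = Cfsg.jankoMatrixX := by decide +kernel

theorem toMat_gY : toMat gY = Cfsg.jankoMatrixY := by decide +kernel

/-- The first generator. -/
def sX : J := ⟨Cfsg.Spor.jankoX, Subgroup.subset_closure (Set.mem_insert _ _)⟩

/-- The second generator. -/
def sY : J := ⟨Cfsg.Spor.jankoY, Subgroup.subset_closure (Set.mem_insert_of_mem _ rfl)⟩

theorem rep_one : Rep 1 oneM := ⟨toMat_oneM.symm, by decide +kernel⟩

theorem rep_sX : Rep sX gX := ⟨toMat_gX.symm, by decide +kernel⟩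

theorem rep_sY : Rep sY gY := ⟨toMat_gY.symm, by decide +kernel⟩

theorem Rep.mul {g h : J} {A B : M7} (hg : Rep g A) (hh : Rep h B) : Rep (g * h) (mulM A B) := by
  refine ⟨?_, okM_mulM A B⟩
  rw [toMat_mulM hg.2 hh.2, Subgroup.coe_mul, Units.val_mul, hg.1, hh.1]

theorem Rep.eq {g h : J} {A B : M7} (hg : Rep g A) (hh : Rep h B) (e : M7.beq A B = true) :
    g = h := by
  obtain rfl := M7.eq_of_beq e
  exact Subtype.ext (Units.ext (hg.1.trans hh.1.symm))

theorem Rep.ne {g h : J} {A B : M7} (hg : Rep g A) (hh : Rep h B) (e : (!M7.beq A B) = true) :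
    g ≠ h := by
  rintro rfl
  have := toMat_inj hg.2 hh.2 (hg.1.symm.trans hh.1)
  subst this
  rw [M7.beq_self] at e
  exact Bool.noConfusion e

theorem Rep.pow {g : J} {A : M7} (hg : Rep g A) (n : ℕ) : Rep (g ^ n) (powM A n) := by
  induction n with
  | zero => exact (pow_zero g).symm ▸ rep_one
  | succ n ih => exact (pow_succ' g n).symm ▸ hg.mul ih

theorem exists_word (w : List Bool) : ∃ g : J, Rep g (wordM w) := by
  induction w with
  | nil => exact ⟨1, rep_one⟩
  | cons b w ih =>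
    obtain ⟨g, hg⟩ := ih
    cases b
    · exact ⟨sX * g, rep_sX.mul hg⟩
    · exact ⟨sY * g, rep_sY.mul hg⟩

theorem exists_rep {w : List Bool} {A : M7} (e : M7.beq (wordM w) A = true) : ∃ g : J, Rep g A := by
  obtain ⟨g, hg⟩ := exists_word w
  exact ⟨g, M7.eq_of_beq e ▸ hg⟩

theorem closure_subset_of_stable {H : Type*} [Group H] [Finite H] {S : Set H} {a b : H} (h1 : (1 : H) ∈ S)
    (ha : ∀ x ∈ S, a * x ∈ S) (hb : ∀ x ∈ S, b * x ∈ S) {g : H}
    (hg : g ∈ Subgroup.closure ({a, b} : Set H)) : g ∈ S := by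
  have hs : ∀ x ∈ ({a, b} : Set H), ∀ y ∈ S, x * y ∈ S := by
    rintro x (rfl | rfl) y hy
    · exact ha y hy
    · exact hb y hy
  induction hg using Subgroup.closure_induction_left with
  | one => exact h1
  | mul_left x hx y _ hy => exact hs x hx y hy
  | inv_mul_cancel x hx y _ hy =>
    have hp : ∀ (m : ℕ), x ^ m * y ∈ S := by
      intro m
      induction m with
      | zero => simpa using hy
      | succ m ih => rw [pow_succ', mul_assoc]; exact hs x hx _ ih
    have hx' : x⁻¹ = x ^ (orderOf x - 1) := by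
      rw [inv_eq_iff_mul_eq_one, ← pow_succ', Nat.sub_add_cancel (orderOf_pos x), pow_orderOf_eq_one]
    exact hx' ▸ hp _

theorem closure_top : Subgroup.closure ({sX, sY} : Set J) = ⊤ := by
  have e : ({sX, sY} : Set J) =
      (Subtype.val : J → GL (Fin 7) (ZMod 11)) ⁻¹' {Cfsg.Spor.jankoX, Cfsg.Spor.jankoY} := by
    ext g
    simp [sX, sY, Subtype.ext_iff]
  rw [e]
  exact Subgroup.closure_closure_coe_preimage

theorem exists_table {n : ℕ} {M : ℕ → M7} {a b : J} {A B : M7} (ra : Rep a A) (rb : Rep b B)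
    {par na nb : ℕ → ℕ} (hn : 0 < n) (h0 : M7.beq (M 0) oneM = true)
    (hs : ∀ k, k < n → na k < n ∧ nb k < n ∧ M7.beq (mulM A (M k)) (M (na k)) = true ∧
      M7.beq (mulM B (M k)) (M (nb k)) = true ∧
      (k = 0 ∨ (par k / 2 < k ∧ (bif par k % 2 == 0 then na (par k / 2) else nb (par k / 2)) = k))) :
    ∃ f : ℕ → J, f 0 = 1 ∧ (∀ k, k < n → Rep (f k) (M k)) ∧
      (∀ k, k < n → a * f k = f (na k) ∧ b * f k = f (nb k)) ∧
      ∀ g, g ∈ Subgroup.closure ({a, b} : Set J) ↔ ∃ k < n, f k = g := by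
  have hex : ∀ k, k < n → ∃ g ∈ Subgroup.closure ({a, b} : Set J), Rep g (M k) := by
    intro k
    induction k using Nat.strong_induction_on with
    | _ k ih =>
      intro hk
      rcases (hs k hk).2.2.2.2 with rfl | ⟨hp, hpar⟩
      · exact ⟨1, one_mem _, (M7.eq_of_beq h0).symm ▸ rep_one⟩
      · obtain ⟨g, hg, hr⟩ := ih _ hp (by omega)
        have hq := hs (par k / 2) (by omega)
        by_cases hb : (par k % 2 == 0) = true
        · rw [hb, cond_true] at hpar
          refine ⟨a * g, mul_mem (Subgroup.subset_closure (Set.mem_insert _ _)) hg, ?_⟩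
          rw [← hpar, ← M7.eq_of_beq hq.2.2.1]
          exact ra.mul hr
        · rw [Bool.not_eq_true] at hb
          rw [hb, cond_false] at hpar
          refine ⟨b * g, mul_mem (Subgroup.subset_closure (Set.mem_insert_of_mem _ rfl)) hg, ?_⟩
          rw [← hpar, ← M7.eq_of_beq hq.2.2.2.1]
          exact rb.mul hr
  choose f hf using hex
  refine ⟨fun k => if h : k < n then f k h else 1, ?_, fun k hk => by simpa [dif_pos hk] using (hf k hk).2, ?_, ?_⟩
  · simp only [dif_pos hn]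
    exact (hf 0 hn).2.eq rep_one h0
  · intro k hk
    simp only [dif_pos hk, dif_pos (hs k hk).1, dif_pos (hs k hk).2.1]
    exact ⟨(ra.mul (hf k hk).2).eq (hf _ _).2 (hs k hk).2.2.1,
      (rb.mul (hf k hk).2).eq (hf _ _).2 (hs k hk).2.2.2.1⟩
  · intro g
    constructor
    · refine closure_subset_of_stable (S := {g | ∃ k < n, (if h : k < n then f k h else 1) = g})
        ⟨0, hn, by simpa [dif_pos hn] using (hf 0 hn).2.eq rep_one h0⟩ ?_ ?_
      · rintro x ⟨k, hk, rfl⟩
        refine ⟨na k, (hs k hk).1, ?_⟩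
        simp only [dif_pos hk, dif_pos (hs k hk).1]
        exact ((ra.mul (hf k hk).2).eq (hf _ _).2 (hs k hk).2.2.1).symm
      · rintro x ⟨k, hk, rfl⟩
        refine ⟨nb k, (hs k hk).2.1, ?_⟩
        simp only [dif_pos hk, dif_pos (hs k hk).2.1]
        exact ((rb.mul (hf k hk).2).eq (hf _ _).2 (hs k hk).2.2.2.1).symm
    · rintro ⟨k, hk, rfl⟩
      simpa [dif_pos hk] using (hf k hk).1

theorem hTest_spec {k : ℕ} (hk : k < 660) :
    hNextAAt k < 660 ∧ hNextBAt k < 660 ∧ M7.beq (mulM elA (hMatAt k)) (hMatAt (hNextAAt k)) = true ∧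
      M7.beq (mulM elB (hMatAt k)) (hMatAt (hNextBAt k)) = true ∧
      (k = 0 ∨ (hParAt k / 2 < k ∧
        (bif hParAt k % 2 == 0 then hNextAAt (hParAt k / 2) else hNextBAt (hParAt k / 2)) = k)) := by
  have h := allFrom_zero h_ok hk
  simp only [hTest, Bool.and_eq_true, Bool.or_eq_true, Nat.blt_eq, beq_iff_eq] at h
  tauto

theorem exists_product : ∃ fT fH : ℕ → J, (∀ i, i < 266 → Rep (fT i) (tMatAt i)) ∧
    (∀ k, k < 660 → Rep (fH k) (hMatAt k)) ∧
    ∀ x : J, ∃ i k, i < 266 ∧ k < 660 ∧ fT i * fH k = x := by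
  obtain ⟨a, ra⟩ := exists_rep (w := elAWord) (A := elA) elAWord_ok
  obtain ⟨b, rb⟩ := exists_rep (w := elBWord) (A := elB) elBWord_ok
  obtain ⟨fH, fH0, rH, hH, cH⟩ := exists_table (n := 660) ra rb (by norm_num)
    hMat_zero (fun k hk => hTest_spec hk)
  have hmulH : ∀ k l, k < 660 → l < 660 → ∃ m < 660, fH m = fH k * fH l := by
    intro k l hk hl
    obtain ⟨m, hm, e⟩ := (cH _).1 (mul_mem ((cH _).2 ⟨k, hk, rfl⟩) ((cH _).2 ⟨l, hl, rfl⟩))
    exact ⟨m, hm, e⟩
  have hT : ∀ i, i < 266 → okM (tMatAt i) = true ∧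
      (tNextXAt i / 1024 < 266 ∧ tNextXAt i % 1024 < 660) ∧
      (tNextYAt i / 1024 < 266 ∧ tNextYAt i % 1024 < 660) ∧
      M7.beq (mulM gX (tMatAt i)) (mulM (tMatAt (tNextXAt i / 1024)) (hMatAt (tNextXAt i % 1024))) = true ∧
      M7.beq (mulM gY (tMatAt i)) (mulM (tMatAt (tNextYAt i / 1024)) (hMatAt (tNextYAt i % 1024))) = true ∧
      (i = 0 ∨ (tParAt i / 2 < i ∧
        (bif tParAt i % 2 == 0 then tNextXAt (tParAt i / 2) else tNextYAt (tParAt i / 2)) = i * 1024)) := by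
    intro i hi
    have h := allFrom_zero t_ok hi
    simp only [tTest, Bool.and_eq_true, Bool.or_eq_true, Nat.blt_eq, beq_iff_eq] at h
    tauto
  have hexT : ∀ i, i < 266 → ∃ g : J, Rep g (tMatAt i) := by
    intro i
    induction i using Nat.strong_induction_on with
    | _ i ih =>
      intro hi
      rcases (hT i hi).2.2.2.2.2 with rfl | ⟨hp, hpar⟩
      · exact ⟨1, (M7.eq_of_beq tMat_zero).symm ▸ rep_one⟩
      · obtain ⟨g, hg⟩ := ih _ hp (by omega)
        have hq := hT (tParAt i / 2) (by omega)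
        have key : ∀ {s : J} {S : M7} {z : ℕ}, Rep s S → z = i * 1024 →
            M7.beq (mulM S (tMatAt (tParAt i / 2))) (mulM (tMatAt (z / 1024)) (hMatAt (z % 1024))) = true →
            ∃ g : J, Rep g (tMatAt i) := by
          intro s S z hs hz e
          subst hz
          rw [Nat.mul_div_cancel _ (by norm_num : 0 < 1024), Nat.mul_mod_left] at e
          refine ⟨s * g, ⟨?_, (hT i hi).1⟩⟩
          have h0 : toMat (hMatAt 0) = 1 := by
            rw [M7.eq_of_beq hMat_zero, toMat_oneM]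
          rw [(hs.mul hg).1, M7.eq_of_beq e, toMat_mulM (hT i hi).1 (rH 0 (by norm_num)).2, h0, mul_one]
        by_cases hb : (tParAt i % 2 == 0) = true
        · rw [hb, cond_true] at hpar
          exact key rep_sX hpar hq.2.2.2.1
        · rw [Bool.not_eq_true] at hb
          rw [hb, cond_false] at hpar
          exact key rep_sY hpar hq.2.2.2.2.1
  choose fT hfT using hexT
  let φ : Fin 266 × Fin 660 → J := fun p => fT p.1 p.1.2 * fH p.2
  have key : ∀ {s : J} {S : M7} (z : ℕ → ℕ), Rep s S →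
      (∀ i, i < 266 → z i / 1024 < 266 ∧ z i % 1024 < 660 ∧
        M7.beq (mulM S (tMatAt i)) (mulM (tMatAt (z i / 1024)) (hMatAt (z i % 1024))) = true) →
      ∀ x ∈ Set.range φ, s * x ∈ Set.range φ := by
    rintro s S z hs hz _ ⟨⟨⟨i, hi⟩, ⟨k, hk⟩⟩, rfl⟩
    obtain ⟨h1, h2, h3⟩ := hz i hi
    obtain ⟨m, hm, e⟩ := hmulH _ k h2 hk
    refine ⟨(⟨_, h1⟩, ⟨m, hm⟩), ?_⟩
    show fT _ h1 * fH m = s * (fT i hi * fH k)
    rw [e, ← mul_assoc, ← mul_assoc, (hs.mul (hfT i hi)).eq ((hfT _ h1).mul (rH _ h2)) h3]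
  have hsurj : Function.Surjective φ := fun g => by
    refine closure_subset_of_stable (S := Set.range φ) ⟨(⟨0, by norm_num⟩, ⟨0, by norm_num⟩), ?_⟩
      (key tNextXAt rep_sX fun i hi => ⟨(hT i hi).2.1.1, (hT i hi).2.1.2, (hT i hi).2.2.2.1⟩)
      (key tNextYAt rep_sY fun i hi => ⟨(hT i hi).2.2.1.1, (hT i hi).2.2.1.2, (hT i hi).2.2.2.2.1⟩)
      (closure_top.symm ▸ Subgroup.mem_top g)
    show fT 0 _ * fH 0 = 1
    rw [fH0, mul_one]
    exact (hfT 0 _).eq rep_one tMat_zero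
  refine ⟨fun i => if h : i < 266 then fT i h else 1, fH, fun i hi => by simpa [dif_pos hi] using hfT i hi,
    rH, fun x => ?_⟩
  obtain ⟨⟨⟨i, hi⟩, ⟨k, hk⟩⟩, e⟩ := hsurj x
  exact ⟨i, k, hi, hk, by simpa [dif_pos hi] using e⟩

theorem exists_card_le : Nat.card J ≤ 175560 := by
  obtain ⟨fT, fH, -, -, hx⟩ := exists_product
  have := Nat.card_le_card_of_surjective (fun p : Fin 266 × Fin 660 => fT p.1 * fH p.2) fun x => by
    obtain ⟨i, k, hi, hk, e⟩ := hx x
    exact ⟨(⟨i, hi⟩, ⟨k, hk⟩), e⟩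
  simpa [Nat.card_prod] using this

theorem orderOf_rep {g : J} {A : M7} (hg : Rep g A) {p : ℕ} (hp : p.Prime)
    (h1 : M7.beq (powM A p) oneM = true) (h2 : (!M7.beq A oneM) = true) : orderOf g = p :=
  haveI := Fact.mk hp
  orderOf_eq_prime ((hg.pow p).eq rep_one h1) (hg.ne rep_one h2)

/-- The chosen involution. -/
theorem exists_invol : ∃ t : J, Rep t elT ∧ orderOf t = 2 := by
  obtain ⟨t, rt⟩ := exists_rep (w := elTWord) (A := elT) elTWord_ok
  exact ⟨t, rt, orderOf_eq_prime (by rw [sq]; exact (rt.mul rt).eq rep_one elT_sq)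
    (rt.ne rep_one elT_ne)⟩

end Cfsg.Agent.Janko1
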