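/-
The order and simplicity of `J₁` and the centraliser of an involution.
-/
import Cfsg.Agent.Janko1.Basic
import Cfsg.Prelude.Def_Sporadic
import Mathlib.GroupTheory.SpecificGroups.Alternating
import Mathlib.GroupTheory.SpecificGroups.Cyclic

set_option autoImplicit false

namespace Cfsg.Agent.Janko1

open Equiv

theorem table_closure {H : Type*} [Group H] [Finite H] {n : ℕ} {f : ℕ → H} {a b : H}
    {na nb : ℕ → ℕ} (hn : 0 < n) (h0 : f 0 = 1)
    (hna : ∀ k, k < n → na k < n ∧ a * f k = f (na k))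
    (hnb : ∀ k, k < n → nb k < n ∧ b * f k = f (nb k)) {g : H}
    (hg : g ∈ Subgroup.closure ({a, b} : Set H)) : ∃ k < n, f k = g :=
  closure_subset_of_stable (S := {g | ∃ k < n, f k = g}) ⟨0, hn, h0⟩
    (by rintro x ⟨k, hk, rfl⟩; exact ⟨na k, (hna k hk).1, (hna k hk).2.symm⟩)
    (by rintro x ⟨k, hk, rfl⟩; exact ⟨nb k, (hnb k hk).1, (hnb k hk).2.symm⟩) hg

theorem aTest_spec {k : ℕ} (hk : k < 60) :
    (aNextCAt k < 60 ∧ aNextDAt k < 60 ∧ M7.beq (mulM elC (aMatAt k)) (aMatAt (aNextCAt k)) = true ∧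
      M7.beq (mulM elD (aMatAt k)) (aMatAt (aNextDAt k)) = true ∧
      (k = 0 ∨ (aParAt k / 2 < k ∧
        (bif aParAt k % 2 == 0 then aNextCAt (aParAt k / 2) else aNextDAt (aParAt k / 2)) = k))) ∧
    (∀ i, i < 5 → dig8 (aPermAt k) i < 5 ∧
      dig8 permCodeC (dig8 (aPermAt k) i) = dig8 (aPermAt (aNextCAt k)) i ∧
      dig8 permCodeD (dig8 (aPermAt k) i) = dig8 (aPermAt (aNextDAt k)) i) ∧
    M7.beq (mulM elT (aMatAt k)) (mulM (aMatAt k) elT) = true ∧ (!M7.beq (aMatAt k) elT) = true ∧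
    ∀ l, l < k → (!M7.beq (aMatAt k) (aMatAt l)) = true := by
  have h := allFrom_zero a_ok hk
  simp only [aTest, Bool.and_eq_true, Bool.or_eq_true, Nat.blt_eq, beq_iff_eq] at h
  obtain ⟨⟨⟨⟨⟨⟨⟨⟨⟨-, h1⟩, h2⟩, h3⟩, h4⟩, h5⟩, h6⟩, h7⟩, h8⟩, h9⟩ := h
  refine ⟨⟨h1, h2, h3, h4, h5⟩, fun i hi => ?_, h7, h8, fun l hl => ?_⟩
  · have := allFrom_zero h6 hi
    simp only [Bool.and_eq_true, Nat.blt_eq, beq_iff_eq] at this
    exact ⟨this.1.1, this.1.2, this.2⟩
  · have := allFrom_zero h9 hl
    simp only [Bool.and_eq_true] at this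
    exact this.1

theorem perm_code_inj (k l : ℕ) (hk : k < 60) (hl : l < 60)
    (h : ∀ i, i < 5 → dig8 (aPermAt k) i = dig8 (aPermAt l) i) : k = l := by
  have key : ∀ a b, a < 60 → b < a →
      (∀ i, i < 5 → dig8 (aPermAt a) i = dig8 (aPermAt b) i) → False := by
    intro a b ha hba hab
    have h' := allFrom_zero a_ok ha
    simp only [aTest, Bool.and_eq_true] at h'
    have h'' := allFrom_zero h'.2 hba
    simp only [Bool.and_eq_true, Bool.not_eq_true'] at h''
    have e : allFrom (fun i => dig8 (aPermAt a) i == dig8 (aPermAt b) i) 0 5 = true :=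
      allFrom_iff.mpr fun i _ hi => beq_iff_eq.mpr (hab i (by omega))
    rw [h''.2] at e
    exact Bool.noConfusion e
  rcases Nat.lt_trichotomy k l with h1 | h1 | h1
  · exact (key l k hl h1 fun i hi => (h i hi).symm).elim
  · exact h1
  · exact (key k l hk h1 h).elim

/-- The image of the first A₅ generator. -/
def permC : Perm (Fin 5) := swap 0 1 * swap 2 3

/-- The image of the second A₅ generator. -/
def permD : Perm (Fin 5) := swap 1 2 * swap 2 4

theorem permC_apply : ∀ x : Fin 5, ((permC x : Fin 5) : ℕ) = dig8 permCodeC x := by decide +kernel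

theorem permD_apply : ∀ x : Fin 5, ((permD x : Fin 5) : ℕ) = dig8 permCodeD x := by decide +kernel

theorem aPerm_zero_apply : ∀ x : Fin 5, ((x : Fin 5) : ℕ) = dig8 (aPermAt 0) x := by decide +kernel

/-- An involution, a subgroup of type A₅ in its centraliser, and a bound on the centraliser. -/
theorem exists_a5 : ∃ (t : J) (K : Subgroup J), orderOf t = 2 ∧ t ∉ K ∧ (∀ x ∈ K, t * x = x * t) ∧
    Nonempty (K ≃* alternatingGroup (Fin 5)) ∧ Rep t elT := by
  obtain ⟨t, rt, ht⟩ := exists_invol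
  obtain ⟨c, rc⟩ := exists_rep (w := elCWord) (A := elC) elCWord_ok
  obtain ⟨d, rd⟩ := exists_rep (w := elDWord) (A := elD) elDWord_ok
  obtain ⟨f, f0, rf, hf, cf⟩ := exists_table (n := 60) rc rd (by norm_num) aMat_zero
    (fun k hk => (aTest_spec hk).1)
  have hσ : ∀ k, k < 60 → ∃ σ : Perm (Fin 5), ∀ x : Fin 5, ((σ x : Fin 5) : ℕ) = dig8 (aPermAt k) x := by
    intro k
    induction k using Nat.strong_induction_on with
    | _ k ih =>
      intro hk
      rcases (aTest_spec hk).1.2.2.2.2 with rfl | ⟨hp, hpar⟩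
      · exact ⟨1, aPerm_zero_apply⟩
      · obtain ⟨σ, hσ⟩ := ih _ hp (by omega)
        have hq := (aTest_spec (show aParAt k / 2 < 60 by omega)).2.1
        by_cases hb : (aParAt k % 2 == 0) = true
        · rw [hb, cond_true] at hpar
          refine ⟨permC * σ, fun x => ?_⟩
          rw [Perm.mul_apply, permC_apply, hσ, (hq x x.2).2.1, hpar]
        · rw [Bool.not_eq_true] at hb
          rw [hb, cond_false] at hpar
          refine ⟨permD * σ, fun x => ?_⟩
          rw [Perm.mul_apply, permD_apply, hσ, (hq x x.2).2.2, hpar]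
  choose σ hσ' using hσ
  let F : ℕ → J × Perm (Fin 5) := fun k => if h : k < 60 then (f k, σ k h) else 1
  have hF : ∀ k, ∀ h : k < 60, F k = (f k, σ k h) := fun k h => dif_pos h
  have hFc : ∀ k, k < 60 → aNextCAt k < 60 ∧ (c, permC) * F k = F (aNextCAt k) := by
    intro k hk
    have hs := aTest_spec hk
    refine ⟨hs.1.1, ?_⟩
    rw [hF k hk, hF _ hs.1.1]
    refine Prod.ext (hf k hk).1 (Equiv.ext fun x => Fin.ext ?_)
    show ((permC * σ k hk) x : ℕ) = _
    rw [Perm.mul_apply, permC_apply, hσ', (hs.2.1 x x.2).2.1, hσ']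
  have hFd : ∀ k, k < 60 → aNextDAt k < 60 ∧ (d, permD) * F k = F (aNextDAt k) := by
    intro k hk
    have hs := aTest_spec hk
    refine ⟨hs.1.2.1, ?_⟩
    rw [hF k hk, hF _ hs.1.2.1]
    refine Prod.ext (hf k hk).2 (Equiv.ext fun x => Fin.ext ?_)
    show ((permD * σ k hk) x : ℕ) = _
    rw [Perm.mul_apply, permD_apply, hσ', (hs.2.1 x x.2).2.2, hσ']
  have hF0 : F 0 = 1 := by
    rw [hF 0 (by norm_num), f0]
    refine Prod.ext rfl (Equiv.ext fun x => Fin.ext ?_)
    rw [hσ' 0 (by norm_num), ← aPerm_zero_apply]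
    rfl
  have finj : ∀ k l, k < 60 → l < 60 → f k = f l → k = l := by
    intro k l hk hl e
    rcases Nat.lt_trichotomy k l with h | h | h
    · exact absurd e.symm ((rf l hl).ne (rf k hk) ((aTest_spec hl).2.2.2.2 k h))
    · exact h
    · exact absurd e ((rf k hk).ne (rf l hl) ((aTest_spec hk).2.2.2.2 l h))
  let P : Subgroup (J × Perm (Fin 5)) := Subgroup.closure {(c, permC), (d, permD)}
  have hP : ∀ g ∈ P, ∃ k < 60, F k = g := fun g hg => table_closure (by norm_num) hF0 hFc hFd hg
  let K : Subgroup J := Subgroup.closure {c, d}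
  let p1 : P →* J := (MonoidHom.fst J (Perm (Fin 5))).comp P.subtype
  have p1inj : Function.Injective p1 := by
    rintro ⟨g, hg⟩ ⟨g', hg'⟩ e
    obtain ⟨k, hk, rfl⟩ := hP g hg
    obtain ⟨l, hl, rfl⟩ := hP g' hg'
    have e' : (F k).1 = (F l).1 := e
    rw [hF k hk, hF l hl] at e'
    obtain rfl := finj k l hk hl e'
    rfl
  have p1range : p1.range = K := by
    rw [MonoidHom.range_comp, Subgroup.range_subtype, MonoidHom.map_closure]
    congr 1
    simp [Set.image_insert_eq]
  have hKcard : Nat.card K = 60 := by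
    let φ : Fin 60 → K := fun k => ⟨f k, (cf _).2 ⟨k, k.2, rfl⟩⟩
    have : Function.Bijective φ := ⟨fun k l e => Fin.ext (finj k l k.2 l.2 (congrArg Subtype.val e)),
      fun ⟨g, hg⟩ => by
        obtain ⟨k, hk, rfl⟩ := (cf g).1 hg
        exact ⟨⟨k, hk⟩, rfl⟩⟩
    rw [← Nat.card_eq_of_bijective φ this, Nat.card_fin]
  have hPcard : Nat.card P = 60 := by
    rw [Nat.card_congr (MonoidHom.ofInjective p1inj).toEquiv, p1range, hKcard]
  let p2 : P →* Perm (Fin 5) := (MonoidHom.snd J (Perm (Fin 5))).comp P.subtype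
  have p2mem : ∀ x : P, p2 x ∈ alternatingGroup (Fin 5) := by
    intro x
    have hle : P ≤ (alternatingGroup (Fin 5)).comap (MonoidHom.snd J (Perm (Fin 5))) := by
      rw [Subgroup.closure_le]
      rintro _ (rfl | rfl)
      · show permC ∈ alternatingGroup (Fin 5)
        rw [Equiv.Perm.mem_alternatingGroup]
        decide +kernel
      · show permD ∈ alternatingGroup (Fin 5)
        rw [Equiv.Perm.mem_alternatingGroup]
        decide +kernel
    exact hle x.2
  have p2inj : Function.Injective p2 := by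
    rintro ⟨g, hg⟩ ⟨g', hg'⟩ e
    obtain ⟨k, hk, rfl⟩ := hP g hg
    obtain ⟨l, hl, rfl⟩ := hP g' hg'
    have e' : (F k).2 = (F l).2 := e
    rw [hF k hk, hF l hl] at e'
    have hcode : ∀ i, i < 5 → dig8 (aPermAt k) i = dig8 (aPermAt l) i := fun i hi => by
      rw [← hσ' k hk ⟨i, hi⟩, ← hσ' l hl ⟨i, hi⟩, show σ k hk = σ l hl from e']
    obtain rfl : k = l := perm_code_inj k l hk hl hcode
    rfl
  let q : P →* alternatingGroup (Fin 5) := p2.codRestrict _ p2mem
  have hq : Function.Bijective q := by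
    refine (Nat.bijective_iff_injective_and_card _).2
      ⟨fun x y e => p2inj (congrArg Subtype.val e), ?_⟩
    rw [hPcard, nat_card_alternatingGroup, Nat.card_fin]
    norm_num [Nat.factorial]
  refine ⟨t, K, ht, ?_, ?_, ⟨?_⟩, rt⟩
  · intro hm
    obtain ⟨k, hk, e⟩ := (cf t).1 hm
    exact (rf k hk).ne rt (aTest_spec hk).2.2.2.1 e
  · intro x hx
    obtain ⟨k, hk, rfl⟩ := (cf x).1 hx
    exact (rt.mul (rf k hk)).eq ((rf k hk).mul rt) (aTest_spec hk).2.2.1
  · exact (((MonoidHom.ofInjective p1inj).trans (MulEquiv.subgroupCongr p1range)).symm).trans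
      (MulEquiv.ofBijective q hq)

/-- The centraliser of an involution contains a group of type `2 × A₅`. -/
theorem exists_centralizer_hom : ∃ (t : J) (ψ : Multiplicative (ZMod 2) × alternatingGroup (Fin 5) →*
    Subgroup.centralizer ({t} : Set J)), orderOf t = 2 ∧ Function.Injective ψ ∧ Rep t elT := by
  obtain ⟨t, K, ht, htK, hcomm, ⟨e⟩, rt⟩ := exists_a5
  have hz : Nat.card (Subgroup.zpowers t) = 2 := by rw [Nat.card_zpowers, ht]
  haveI : Fact (Nat.Prime 2) := ⟨Nat.prime_two⟩
  let ez : Multiplicative (ZMod 2) ≃* Subgroup.zpowers t :=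
    mulEquivOfPrimeCardEq (p := 2) (by simp [Nat.card_zmod]) hz
  have hzc : ∀ x ∈ Subgroup.zpowers t, x ∈ Subgroup.centralizer ({t} : Set J) := by
    intro x hx
    obtain ⟨i, rfl⟩ := Subgroup.mem_zpowers_iff.1 hx
    exact Subgroup.mem_centralizer_singleton_iff.2 ((Commute.refl t).zpow_left i).eq
  have hKc : ∀ x ∈ K, x ∈ Subgroup.centralizer ({t} : Set J) := fun x hx =>
    Subgroup.mem_centralizer_singleton_iff.2 (hcomm x hx).symm
  let φ1 : Multiplicative (ZMod 2) →* Subgroup.centralizer ({t} : Set J) :=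
    (Subgroup.inclusion (fun x hx => hzc x hx)).comp ez.toMonoidHom
  let φ2 : alternatingGroup (Fin 5) →* Subgroup.centralizer ({t} : Set J) :=
    (Subgroup.inclusion (fun x hx => hKc x hx)).comp e.symm.toMonoidHom
  have hc : ∀ a b, Commute (φ1 a) (φ2 b) := by
    intro a b
    apply Subtype.ext
    obtain ⟨i, hi⟩ := Subgroup.mem_zpowers_iff.1 (ez a).2
    show ((ez a : Subgroup.zpowers t) : J) * (e.symm b : K) = (e.symm b : K) * (ez a : Subgroup.zpowers t)
    rw [← hi]
    exact (Commute.zpow_left (hcomm _ (e.symm b).2) i).eq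
  refine ⟨t, φ1.noncommCoprod φ2 hc, ht, ?_, rt⟩
  rw [injective_iff_map_eq_one]
  rintro ⟨a, b⟩ h
  have h' : ((ez a : Subgroup.zpowers t) : J) * (e.symm b : K) = 1 := congrArg Subtype.val h
  have hmem : ((ez a : Subgroup.zpowers t) : J) ∈ K := by
    rw [eq_inv_of_mul_eq_one_left h']
    exact inv_mem (e.symm b).2
  have ha : ez a = 1 := by
    apply Subtype.ext
    obtain ⟨i, hi⟩ := Subgroup.mem_zpowers_iff.1 (ez a).2
    rw [← hi] at hmem ⊢
    rw [← zpow_mod_orderOf, ht] at hmem ⊢
    rcases Int.emod_two_eq_zero_or_one i with h0 | h0 <;> simp only [Nat.cast_ofNat, h0] at hmem ⊢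
    · simp
    · exact absurd (by simpa using hmem) htK
  have hb : e.symm b = 1 := Subtype.ext (by simpa [ha] using h')
  exact Prod.ext (ez.map_eq_one_iff.1 ha) (e.symm.map_eq_one_iff.1 hb)

theorem card_J : Nat.card J = 175560 := by
  refine le_antisymm exists_card_le (Nat.le_of_dvd Nat.card_pos ?_)
  have h7 : 7 ∣ Nat.card J := orderOf_rep rep_sX (by norm_num : Nat.Prime 7) gX_pow gX_ne ▸ orderOf_dvd_natCard sX
  obtain ⟨g, rg⟩ := exists_rep (w := el19Word) (A := el19) el19Word_ok
  have h19 : 19 ∣ Nat.card J := orderOf_rep rg (by norm_num : Nat.Prime 19) el19_pow el19_ne ▸ orderOf_dvd_natCard g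
  obtain ⟨h, rh⟩ := exists_rep (w := el11Word) (A := el11) el11Word_ok
  have h11 : 11 ∣ Nat.card J := orderOf_rep rh (by norm_num : Nat.Prime 11) el11_pow el11_ne ▸ orderOf_dvd_natCard h
  obtain ⟨t, ψ, -, hψ, -⟩ := exists_centralizer_hom
  have h120 : 120 ∣ Nat.card J := by
    have := (Subgroup.card_dvd_of_injective ψ hψ).trans (Subgroup.card_subgroup_dvd_card _)
    rwa [Nat.card_prod, nat_card_alternatingGroup, Nat.card_fin, Nat.card_eq_fintype_card,
      show Fintype.card (Multiplicative (ZMod 2)) = 2 from rfl,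
      show 2 * ((5 : ℕ).factorial / 2) = 120 by norm_num [Nat.factorial]] at this
  have := Nat.Coprime.mul_dvd_of_dvd_of_dvd (by norm_num) (Nat.Coprime.mul_dvd_of_dvd_of_dvd (by norm_num)
    (Nat.Coprime.mul_dvd_of_dvd_of_dvd (by norm_num) h120 h7) h11) h19
  exact this

theorem isJ1 : Cfsg.IsJ1 J := by
  refine ⟨?_, card_J⟩
  haveI : Fact (Nat.Prime 19) := ⟨by norm_num⟩
  refine (Cfsg.Agent.S4274.result card_J).resolve_right fun hn => ?_
  obtain ⟨g, rg⟩ := exists_rep (w := el19Word) (A := el19) el19Word_ok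
  have hg := orderOf_rep rg (by norm_num : Nat.Prime 19) el19_pow el19_ne
  have hgP : IsPGroup 19 (Subgroup.zpowers g) :=
    IsPGroup.of_card (n := 1) (by rw [Nat.card_zpowers, hg, pow_one])
  obtain ⟨P, hP⟩ := hgP.exists_le_sylow
  have hPc : Nat.card P = 19 := by
    obtain ⟨k, hk⟩ := IsPGroup.iff_card.mp P.2
    have hk1 : 19 ∣ 19 ^ k := by
      have h := Subgroup.card_dvd_of_le hP
      rw [Nat.card_zpowers, hg, hk] at h
      exact h
    have hk2 : 19 ^ k ∣ 175560 := by
      rw [← hk, ← card_J]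
      exact Subgroup.card_subgroup_dvd_card _
    match k with
    | 0 => norm_num at hk1
    | 1 => simpa using hk
    | m + 2 => exact absurd ((pow_dvd_pow 19 (by omega : 2 ≤ m + 2)).trans hk2) (by norm_num)
  have hPg : (P : Subgroup J) = Subgroup.zpowers g :=
    (Subgroup.eq_of_le_of_card_ge hP (by rw [Nat.card_zpowers, hg]; exact hPc.le)).symm
  have hm := (hn P).conj_mem g (hPg ▸ Subgroup.mem_zpowers g) sX
  rw [hPg] at hm
  obtain ⟨k, hk, e⟩ := (mem_zpowers_iff_mem_range_orderOf.trans Finset.mem_image).1 hm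
  rw [Finset.mem_range, hg] at hk
  exact ((rep_sX.mul rg).ne ((rg.pow k).mul rep_sX) (allFrom_zero el19_conj hk))
    (by rw [e, inv_mul_cancel_right])

theorem centralizer_card_le {t : J} (rt : Rep t elT) :
    Nat.card (Subgroup.centralizer ({t} : Set J)) * 210 ≤ 175560 := by
  have hex : ∀ j, j < 210 → ∃ g : J, Rep (g * t * g⁻¹) (cMatAt j) := by
    intro j
    induction j using Nat.strong_induction_on with
    | _ j ih =>
      intro hj
      have h := allFrom_zero c_ok hj
      simp only [cTest, Bool.and_eq_true, Bool.or_eq_true, Nat.blt_eq, beq_iff_eq] at h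
      rcases h.1.2 with rfl | ⟨hp, he⟩
      · exact ⟨1, by rw [M7.eq_of_beq cMat_zero]; simpa using rt⟩
      · obtain ⟨g, hg⟩ := ih _ hp (by omega)
        have key : ∀ {s : J} {S : M7}, Rep s S →
            M7.beq (mulM (cMatAt j) S) (mulM S (cMatAt (cParAt j / 2))) = true →
            ∃ g : J, Rep (g * t * g⁻¹) (cMatAt j) := by
          intro s S hs e
          refine ⟨s * g, ?_, h.1.1⟩
          have hm := (hs.mul hg).1
          rw [← M7.eq_of_beq e, toMat_mulM h.1.1 hs.2, ← hs.1, Subgroup.coe_mul, Units.val_mul] at hm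
          rw [show s * g * t * (s * g)⁻¹ = s * (g * t * g⁻¹) * s⁻¹ by group, Subgroup.coe_mul,
            Units.val_mul, Subgroup.coe_mul, Units.val_mul, hm, Subgroup.coe_inv, Units.mul_inv_cancel_right]
        by_cases hb : (cParAt j % 2 == 0) = true
        · rw [hb, cond_true] at he
          exact key rep_sX he
        · rw [Bool.not_eq_true] at hb
          rw [hb, cond_false] at he
          exact key rep_sY he
  choose g hg using hex
  have hinj : Function.Injective (fun j : Fin 210 =>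
      (g j j.2 : J ⧸ Subgroup.centralizer ({t} : Set J))) := by
    intro i j e
    have e' := QuotientGroup.eq.1 e
    rw [Subgroup.mem_centralizer_singleton_iff] at e'
    have eq : g i i.2 * t * (g i i.2)⁻¹ = g j j.2 * t * (g j j.2)⁻¹ := by
      rw [mul_inv_eq_iff_eq_mul]
      calc g i i.2 * t = g j j.2 * ((g j j.2)⁻¹ * g i i.2) * t := by group
        _ = g j j.2 * (t * ((g j j.2)⁻¹ * g i i.2)) := by
          rw [mul_assoc]
          congr 1
          have := congrArg (fun z => ((g i i.2)⁻¹ * g j j.2)⁻¹ * z * ((g i i.2)⁻¹ * g j j.2)⁻¹) e'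
          simpa [mul_assoc] using this.symm
        _ = _ := by group
    have hd : ∀ a b : Fin 210, (b : ℕ) < a → g a a.2 * t * (g a a.2)⁻¹ ≠ g b b.2 * t * (g b b.2)⁻¹ := by
      intro a b hba
      have h := allFrom_zero c_ok a.2
      simp only [cTest, Bool.and_eq_true] at h
      exact (hg a a.2).ne (hg b b.2) (allFrom_zero h.2 hba)
    rcases lt_trichotomy (i : ℕ) j with h | h | h
    · exact absurd eq.symm (hd j i h)
    · exact Fin.ext h
    · exact absurd eq (hd i j h)
  have h210 : 210 ≤ (Subgroup.centralizer ({t} : Set J)).index := by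
    have := Nat.card_le_card_of_injective _ hinj
    rwa [Nat.card_fin] at this
  calc Nat.card (Subgroup.centralizer ({t} : Set J)) * 210
      ≤ Nat.card (Subgroup.centralizer ({t} : Set J)) * (Subgroup.centralizer ({t} : Set J)).index :=
        Nat.mul_le_mul_left _ h210
    _ = 175560 := by rw [Subgroup.card_mul_index, card_J]

theorem involution_centralizer : ∃ t : J, orderOf t = 2 ∧
    Nonempty (Subgroup.centralizer ({t} : Set J) ≃* Multiplicative (ZMod 2) × alternatingGroup (Fin 5)) := by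
  obtain ⟨t, ψ, ht, hψ, rt⟩ := exists_centralizer_hom
  have hd : Nat.card (Multiplicative (ZMod 2) × alternatingGroup (Fin 5)) = 120 := by
    rw [Nat.card_prod, nat_card_alternatingGroup, Nat.card_fin, Nat.card_eq_fintype_card,
      show Fintype.card (Multiplicative (ZMod 2)) = 2 from rfl]
    norm_num [Nat.factorial]
  have h1 := hd ▸ Subgroup.card_dvd_of_injective ψ hψ
  have h2 : Nat.card (Subgroup.centralizer ({t} : Set J)) ∣ 175560 :=
    card_J ▸ Subgroup.card_subgroup_dvd_card _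
  have h3 := centralizer_card_le rt
  have h4 : Nat.card (Subgroup.centralizer ({t} : Set J)) = 120 := by
    obtain ⟨m, hm⟩ := h1
    rw [hm] at h2 h3 ⊢
    have h5 : m ∣ 1463 := Nat.dvd_of_mul_dvd_mul_left (by norm_num : 0 < 120) (by simpa using h2)
    have h6 : m ≤ 6 := by omega
    interval_cases m <;> omega
  exact ⟨t, ht, ⟨(MulEquiv.ofBijective ψ ((Nat.bijective_iff_injective_and_card _).2
    ⟨hψ, hd.trans h4.symm⟩)).symm⟩⟩

end Cfsg.Agent.Janko1
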