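/-
The Schur multiplier of `J₁` is trivial.
-/
import Cfsg.Agent.Janko1.Centralizer
import Cfsg.Agent.FGS4.SchurSylow.Basic
import Cfsg.Prelude.Def_KGroupFacts
import Mathlib.GroupTheory.Perm.Cycle.Type

set_option autoImplicit false

namespace Cfsg.Agent.Janko1

open scoped commutatorElement

theorem comm_chain {Γ : Type*} [Group Γ] {a b c d z g : Γ} {Z : Subgroup Γ} (hZ : Z ≤ Subgroup.center Γ)
    (hab : ⁅a, b⁆ ∈ Z) (hac : ⁅a, c⁆ ∈ Z) (hbc : ⁅b, c⁆ ∈ Z) (hz : z ∈ Z) (hd : d = a * b * z)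
    (gb : g * a * g⁻¹ = b) (gc : g * b * g⁻¹ = c) (gd : g * c * g⁻¹ = d) :
    ⁅a, b⁆ = 1 ∧ ⁅a, c⁆ = 1 ∧ ⁅b, c⁆ = 1 := by
  have hcen : ∀ {x : Γ}, x ∈ Z → ∀ y, y * x = x * y := fun hx y => Subgroup.mem_center_iff.1 (hZ hx) y
  have conj : ∀ x y, ⁅x, y⁆ ∈ Z → ⁅g * x * g⁻¹, g * y * g⁻¹⁆ = ⁅x, y⁆ := by
    intro x y h
    have e : ⁅g * x * g⁻¹, g * y * g⁻¹⁆ = g * ⁅x, y⁆ * g⁻¹ := by
      simp only [commutatorElement_def]; group
    rw [e, hcen h g, mul_inv_cancel_right]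
  have e1 : ⁅b, c⁆ = ⁅a, b⁆ := by rw [← conj a b hab, gb, gc]
  have e2 : ⁅c, d⁆ = ⁅b, c⁆ := by rw [← conj b c hbc, gc, gd]
  have e3 : ⁅b, d⁆ = ⁅a, c⁆ := by rw [← conj a c hac, gb, gd]
  have hzy : ∀ y w : Γ, ⁅y, w * z⁆ = ⁅y, w⁆ := by
    intro y w
    simp only [commutatorElement_def, mul_inv_rev]
    calc y * (w * z) * y⁻¹ * (z⁻¹ * w⁻¹) = y * w * (z * y⁻¹) * z⁻¹ * w⁻¹ := by group
      _ = y * w * (y⁻¹ * z) * z⁻¹ * w⁻¹ := by rw [hcen hz]
      _ = y * w * y⁻¹ * w⁻¹ := by group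
  have f3 : ⁅a, c⁆ = ⁅a, b⁆⁻¹ := by
    rw [← e3, hd, hzy, commutatorElement_inv]
    simp only [commutatorElement_def]; group
  have f2 : ⁅c, d⁆ = ⁅a, c⁆⁻¹ * ⁅b, c⁆⁻¹ := by
    rw [hd, hzy, commutatorElement_inv, commutatorElement_inv]
    have h' : ⁅c, b⁆ ∈ Z := by rw [← commutatorElement_inv b c]; exact inv_mem hbc
    have e : ⁅c, a * b⁆ = ⁅c, a⁆ * (a * ⁅c, b⁆ * a⁻¹) := by
      simp only [commutatorElement_def]; group
    rw [e, hcen h' a, mul_inv_cancel_right]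
  rw [e2, e1, f3, inv_inv, mul_inv_cancel] at f2
  exact ⟨f2, by rw [f3, f2, inv_one], by rw [e1, f2]⟩

theorem exists_four : ∃ t u v g : J, t * t = 1 ∧ u * u = 1 ∧ v * v = 1 ∧ t * u = u * t ∧
    t * v = v * t ∧ u * v = v * u ∧ g * t * g⁻¹ = u ∧ g * u * g⁻¹ = v ∧ g * v * g⁻¹ = t * u ∧
    (∀ i j k : Fin 2, t ^ (i : ℕ) * (u ^ (j : ℕ) * v ^ (k : ℕ)) = 1 → i = 0 ∧ j = 0 ∧ k = 0) ∧
    Rep t elT ∧ Rep g elS := by
  obtain ⟨t, rt⟩ := exists_rep (w := elTWord) (A := elT) elTWord_ok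
  obtain ⟨g, rg⟩ := exists_rep (w := elSWord) (A := elS) elSWord_ok
  have hinv : g⁻¹ = g ^ 6 :=
    inv_eq_of_mul_eq_one_right (by rw [← pow_succ']; exact (rg.pow 7).eq rep_one elS_pow)
  have ru : Rep (g * t * g⁻¹) conj1 := by
    rw [hinv, ← M7.eq_of_beq conj_one]; exact (rg.mul rt).mul (rg.pow 6)
  have rv : Rep (g * (g * t * g⁻¹) * g⁻¹) conj2 := by
    rw [← M7.eq_of_beq conj_two]; exact (rg.mul ru).mul (hinv ▸ rg.pow 6)
  have hsq : t * t = 1 := (rt.mul rt).eq rep_one elT_sq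
  have hsqu : g * t * g⁻¹ * (g * t * g⁻¹) = 1 := by
    rw [show g * t * g⁻¹ * (g * t * g⁻¹) = g * (t * t) * g⁻¹ by group, hsq]; group
  refine ⟨t, _, _, g, hsq, hsqu, ?_, (rt.mul ru).eq (ru.mul rt) comm01,
    (rt.mul rv).eq (rv.mul rt) comm02, (ru.mul rv).eq (rv.mul ru) comm12, rfl, rfl,
    ((rg.mul rv).mul (hinv ▸ rg.pow 6)).eq (rt.mul ru) conj_three, ?_, rt, rg⟩
  · rw [show g * (g * t * g⁻¹) * g⁻¹ * (g * (g * t * g⁻¹) * g⁻¹) =
      g * (g * t * g⁻¹ * (g * t * g⁻¹)) * g⁻¹ by group, hsqu]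
    group
  · intro i j k h
    by_contra hne
    have hk : (i : ℕ) + 2 * j + 4 * k < 8 := by omega
    have := allFrom_zero fours_ne hk
    simp only [Bool.or_eq_true, beq_iff_eq] at this
    rcases this with h0 | h0
    · exact hne ⟨Fin.ext (show (i : ℕ) = 0 by omega), Fin.ext (show (j : ℕ) = 0 by omega),
        Fin.ext (show (k : ℕ) = 0 by omega)⟩
    · rw [show ((i : ℕ) + 2 * j + 4 * k) % 2 = i by omega,
        show ((i : ℕ) + 2 * j + 4 * k) / 2 % 2 = j by omega,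
        show ((i : ℕ) + 2 * j + 4 * k) / 4 = k by omega] at h0
      exact ((rt.pow i).mul ((ru.pow j).mul (rv.pow k))).ne rep_one h0 h

theorem exists_sylow_four {t u v : J} (ht : t * t = 1) (hu : u * u = 1) (hv : v * v = 1)
    (htu : t * u = u * t) (htv : t * v = v * t) (huv : u * v = v * u)
    (hind : ∀ i j k : Fin 2, t ^ (i : ℕ) * (u ^ (j : ℕ) * v ^ (k : ℕ)) = 1 → i = 0 ∧ j = 0 ∧ k = 0) :
    ∃ S : Sylow 2 J, ∀ y ∈ (S : Subgroup J), ∃ i j k : Fin 2,
      t ^ (i : ℕ) * (u ^ (j : ℕ) * v ^ (k : ℕ)) = y := by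
  have hcomm : ∀ x ∈ ({t, u, v} : Set J), ∀ y ∈ ({t, u, v} : Set J), x * y = y * x := by
    rintro x (rfl | rfl | rfl) y (rfl | rfl | rfl) <;>
      first | rfl | assumption | exact htu.symm | exact htv.symm | exact huv.symm
  have hsq : ∀ x ∈ Subgroup.closure ({t, u, v} : Set J), x * x = 1 := by
    haveI := Subgroup.isMulCommutative_closure hcomm
    intro x hx
    induction hx using Subgroup.closure_induction with
    | mem x hx => rcases hx with rfl | rfl | rfl <;> assumption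
    | one => simp
    | mul x y hx hy ex ey =>
      have e : x * y = y * x := congrArg Subtype.val
        (mul_comm' (⟨x, hx⟩ : Subgroup.closure ({t, u, v} : Set J)) ⟨y, hy⟩)
      calc x * y * (x * y) = x * (y * x) * y := by group
        _ = x * (x * y) * y := by rw [e]
        _ = x * x * (y * y) := by group
        _ = 1 := by rw [ex, ey, one_mul]
    | inv x _ ex => rw [← mul_inv_rev, ex, inv_one]
  have hPg : IsPGroup 2 (Subgroup.closure ({t, u, v} : Set J)) := fun x =>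
    ⟨1, Subtype.ext (by simpa [sq] using hsq x x.2)⟩
  obtain ⟨S, hS⟩ := hPg.exists_le_sylow
  have hmem : ∀ x ∈ ({t, u, v} : Set J), x ∈ (S : Subgroup J) :=
    fun x hx => hS (Subgroup.subset_closure hx)
  let φ : Fin 2 × Fin 2 × Fin 2 → (S : Subgroup J) := fun q =>
    ⟨t ^ (q.1 : ℕ) * (u ^ (q.2.1 : ℕ) * v ^ (q.2.2 : ℕ)),
      mul_mem (pow_mem (hmem t (by simp)) _)
        (mul_mem (pow_mem (hmem u (by simp)) _) (pow_mem (hmem v (by simp)) _))⟩
  have hSc : Nat.card S = 8 := by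
    obtain ⟨k, hk⟩ := IsPGroup.iff_card.mp S.2
    have h2 : 2 ^ k ∣ 175560 := by
      rw [← hk, ← card_J]; exact Subgroup.card_subgroup_dvd_card _
    have hk3 : k ≤ 3 := by
      by_contra hk4
      exact absurd ((pow_dvd_pow 2 (by omega : 4 ≤ k)).trans h2) (by norm_num)
    have h8 : 2 ^ 3 ∣ Nat.card S := S.pow_dvd_card_of_pow_dvd_card (by rw [card_J]; norm_num)
    rw [hk] at h8 ⊢
    have := (Nat.pow_dvd_pow_iff_le_right (by norm_num)).1 h8
    rw [show k = 3 by omega]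
    norm_num
  have hφ : Function.Bijective φ := by
    refine (Nat.bijective_iff_injective_and_card _).2 ⟨?_, by rw [hSc]; simp [Nat.card_prod]⟩
    rintro ⟨i, j, k⟩ ⟨i', j', k'⟩ e
    have e' : t ^ (i : ℕ) * (u ^ (j : ℕ) * v ^ (k : ℕ)) =
        t ^ (i' : ℕ) * (u ^ (j' : ℕ) * v ^ (k' : ℕ)) := congrArg Subtype.val e
    have hcu : Commute t u := htu
    have hcv : Commute t v := htv
    have hcw : Commute u v := huv
    have hdiff : ∀ (x : J) (_ : x * x = 1) (a b : Fin 2), x ^ (a : ℕ) * x ^ (b : ℕ) = x ^ ((a + b : Fin 2) : ℕ) := by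
      intro x hx a b
      fin_cases a <;> fin_cases b <;> simp [hx]
    have key := hind (i + i') (j + j') (k + k') (by
      rw [← hdiff t ht, ← hdiff u hu, ← hdiff v hv]
      have hc1 : Commute (t ^ (i' : ℕ)) (u ^ (j : ℕ) * v ^ (k : ℕ)) :=
        ((hcu.pow_pow _ _)).mul_right (hcv.pow_pow _ _)
      have hc2 : Commute (u ^ (j' : ℕ)) (v ^ (k : ℕ)) := hcw.pow_pow _ _
      calc t ^ (i : ℕ) * t ^ (i' : ℕ) * (u ^ (j : ℕ) * u ^ (j' : ℕ) * (v ^ (k : ℕ) * v ^ (k' : ℕ)))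
          = t ^ (i : ℕ) * t ^ (i' : ℕ) * (u ^ (j : ℕ) * (u ^ (j' : ℕ) * v ^ (k : ℕ)) * v ^ (k' : ℕ)) := by
            group
        _ = t ^ (i : ℕ) * (t ^ (i' : ℕ) * (u ^ (j : ℕ) * v ^ (k : ℕ))) *
            (u ^ (j' : ℕ) * v ^ (k' : ℕ)) := by rw [hc2.eq]; group
        _ = (t ^ (i : ℕ) * (u ^ (j : ℕ) * v ^ (k : ℕ))) *
            (t ^ (i' : ℕ) * (u ^ (j' : ℕ) * v ^ (k' : ℕ))) := by rw [hc1.eq]; group
        _ = 1 := by rw [e']; exact hsq _ (mul_mem (pow_mem (Subgroup.subset_closure (by simp)) _)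
            (mul_mem (pow_mem (Subgroup.subset_closure (by simp)) _)
              (pow_mem (Subgroup.subset_closure (by simp)) _))))
    have h2 : ∀ a b : Fin 2, a + b = 0 → a = b := by decide
    exact Prod.ext (h2 _ _ key.1) (Prod.ext (h2 _ _ key.2.1) (h2 _ _ key.2.2))
  refine ⟨S, fun y hy => ?_⟩
  obtain ⟨⟨i, j, k⟩, hq⟩ := hφ.2 ⟨y, hy⟩
  exact ⟨i, j, k, congrArg Subtype.val hq⟩

theorem stem_ker_eq_bot {Γ : Type*} [Group Γ] [Finite Γ] (σ : Γ →* J) (hσ : Cfsg.IsStemExtension σ) :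
    σ.ker = ⊥ := by
  by_contra hne
  have h1 : Nat.card σ.ker ≠ 1 := fun h => hne (Subgroup.card_eq_one.mp h)
  obtain ⟨p, hp, hpd⟩ := Nat.exists_prime_and_dvd h1
  haveI := Fact.mk hp
  obtain ⟨⟨z, hz⟩, hzo⟩ := exists_prime_orderOf_dvd_card' p hpd
  rw [Subgroup.orderOf_mk] at hzo
  by_cases hp2 : p = 2
  · subst hp2
    obtain ⟨t, u, v, g, ht, hu, hv, htu, htv, huv, hgu, hgv, hgt, hind, -, -⟩ := exists_four
    obtain ⟨S, hS⟩ := exists_sylow_four ht hu hv htu htv huv hind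
    refine Cfsg.Agent.FGS4.SchurSylow.stem_false hσ S hz hzo fun x _ hx => ?_
    obtain ⟨a, ha⟩ := hσ.1 t
    obtain ⟨g', hg'⟩ := hσ.1 g
    have hkc : ∀ x y : Γ, Commute (σ x) (σ y) → ⁅x, y⁆ ∈ σ.ker := fun x y h => by
      rw [MonoidHom.mem_ker, map_commutatorElement, commutatorElement_eq_one_iff_commute]
      exact h
    obtain ⟨b, hbdef⟩ : ∃ b, b = g' * a * g'⁻¹ := ⟨_, rfl⟩
    obtain ⟨c, hcdef⟩ : ∃ c, c = g' * b * g'⁻¹ := ⟨_, rfl⟩
    have hb : σ b = u := by rw [hbdef, map_mul, map_mul, map_inv, hg', ha, hgu]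
    have hc : σ c = v := by rw [hcdef, map_mul, map_mul, map_inv, hg', hb, hgv]
    obtain ⟨h12, h13, h23⟩ := comm_chain (z := (a * b)⁻¹ * (g' * c * g'⁻¹)) hσ.2.1
      (hkc a b (by rw [ha, hb]; exact htu)) (hkc a c (by rw [ha, hc]; exact htv))
      (hkc b c (by rw [hb, hc]; exact huv))
      (by rw [MonoidHom.mem_ker, map_mul, map_inv, map_mul, map_mul, map_mul, map_inv, hg', hc, ha, hb,
        hgt, inv_mul_cancel])
      (mul_inv_cancel_left _ _).symm hbdef.symm hcdef.symm rfl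
    rw [commutatorElement_eq_one_iff_commute] at h12 h13 h23
    have hle : (S : Subgroup J).comap σ ≤ Subgroup.closure ({a, b, c} : Set Γ) ⊔ σ.ker := by
      intro y hy
      obtain ⟨i, j, k, hq'⟩ := hS (σ y) hy
      rw [← Subgroup.comap_map_eq, Subgroup.mem_comap, MonoidHom.map_closure, ← hq']
      refine mul_mem (pow_mem (Subgroup.subset_closure ?_) _) (mul_mem
        (pow_mem (Subgroup.subset_closure ?_) _) (pow_mem (Subgroup.subset_closure ?_) _))
      · exact ⟨a, by simp, ha⟩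
      · exact ⟨b, by simp, hb⟩
      · exact ⟨c, by simp, hc⟩
    have hcc : ∀ x ∈ ({a, b, c} : Set Γ), ∀ y ∈ ({a, b, c} : Set Γ), x * y = y * x := by
      intro x hx y hy
      rcases hx with rfl | rfl | rfl <;> rcases hy with rfl | rfl | rfl <;>
        first | rfl | exact h12.eq | exact h13.eq | exact h23.eq | exact h12.eq.symm |
          exact h13.eq.symm | exact h23.eq.symm
    have hbot : ⁅Subgroup.closure ({a, b, c} : Set Γ), Subgroup.closure ({a, b, c} : Set Γ)⁆ = ⊥ := by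
      haveI := Subgroup.isMulCommutative_closure hcc
      rw [Subgroup.commutator_eq_bot_iff_le_centralizer]
      intro y hy
      rw [Subgroup.mem_centralizer_iff]
      intro w hw
      exact congrArg Subtype.val (mul_comm' (⟨w, hw⟩ : Subgroup.closure ({a, b, c} : Set Γ)) ⟨y, hy⟩)
    have := Cfsg.Agent.FGS4.SchurSylow.commutator_sup_center_le hσ.2.1
      (Subgroup.commutator_mono hle hle hx)
    rw [hbot] at this
    exact Subgroup.mem_bot.1 this
  · obtain ⟨S⟩ : Nonempty (Sylow p J) := inferInstance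
    refine Cfsg.Agent.FGS4.SchurSylow.stem_false_cyclic hσ S ?_ hz hzo
    obtain ⟨k, hk⟩ := IsPGroup.iff_card.mp S.2
    have hd : p ^ k ∣ 175560 := by rw [← hk, ← card_J]; exact Subgroup.card_subgroup_dvd_card _
    have hk1 : k ≤ 1 := by
      by_contra hk2
      have h2 : p ^ 2 ∣ 175560 := (pow_dvd_pow p (by omega : 2 ≤ k)).trans hd
      have hp' : p ∣ 2 ^ 3 * (3 * (5 * (7 * (11 * 19)))) := (dvd_pow_self p two_ne_zero).trans (by norm_num; exact h2)
      have h19 : Nat.Prime 19 := by norm_num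
      have h11 : Nat.Prime 11 := by norm_num
      have h7 : Nat.Prime 7 := by norm_num
      rcases hp.dvd_mul.mp hp' with h | h
      · exact hp2 ((Nat.prime_dvd_prime_iff_eq hp Nat.prime_two).mp (hp.dvd_of_dvd_pow h))
      rcases hp.dvd_mul.mp h with h | h
      · obtain rfl := (Nat.prime_dvd_prime_iff_eq hp Nat.prime_three).mp h; norm_num at h2
      rcases hp.dvd_mul.mp h with h | h
      · obtain rfl := (Nat.prime_dvd_prime_iff_eq hp Nat.prime_five).mp h; norm_num at h2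
      rcases hp.dvd_mul.mp h with h | h
      · obtain rfl := (Nat.prime_dvd_prime_iff_eq hp h7).mp h; norm_num at h2
      rcases hp.dvd_mul.mp h with h | h
      · obtain rfl := (Nat.prime_dvd_prime_iff_eq hp h11).mp h; norm_num at h2
      · obtain rfl := (Nat.prime_dvd_prime_iff_eq hp h19).mp h; norm_num at h2
    show IsCyclic (S : Subgroup J)
    interval_cases k
    · haveI : Subsingleton (S : Subgroup J) := (Nat.card_eq_one_iff_unique.1 (by simpa using hk)).1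
      exact isCyclic_of_subsingleton
    · exact isCyclic_of_prime_card (p := p) (by simpa using hk)

theorem j1_multiplier : Cfsg.HasCyclicSchurMultiplier J 1 := by
  refine ⟨⟨J, inferInstance, inferInstance, MonoidHom.id _, ⟨Function.surjective_id, ?_, ?_⟩, ?_⟩, ?_⟩
  · rw [MonoidHom.ker_id]; exact bot_le
  · rw [MonoidHom.ker_id]; exact bot_le
  · rw [MonoidHom.ker_id]
    exact ⟨MulEquiv.ofUnique⟩
  · intro Γ _ _ σ hσ
    refine ⟨1, fun z => ⟨1, Subtype.ext ?_⟩⟩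
    have hb := stem_ker_eq_bot σ hσ
    have := (Subgroup.eq_bot_iff_forall _).mp hb z z.2
    simp [this]

end Cfsg.Agent.Janko1
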