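/-
Every automorphism of `J₁` is inner.
-/
import Cfsg.Agent.Janko1.Multiplier
import Cfsg.Agent.Janko1.AutChecks

set_option autoImplicit false

namespace Cfsg.Agent.Janko1

theorem rep_self_eq {g h : J} {A : M7} (hg : Rep g A) (hh : Rep h A) : g = h :=
  hg.eq hh (M7.beq_self A)

theorem exists_rep_aMat {t : J} (rt : Rep t elT) :
    ∃ f : ℕ → J, ∀ k, k < 60 → Rep (f k) (aMatAt k) ∧ Commute t (f k) := by
  obtain ⟨c, rc⟩ := exists_rep (w := elCWord) (A := elC) elCWord_ok
  obtain ⟨d, rd⟩ := exists_rep (w := elDWord) (A := elD) elDWord_ok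
  obtain ⟨f, -, rf, -, -⟩ := exists_table (n := 60) rc rd (by norm_num) aMat_zero
    (fun k hk => (aTest_spec hk).1)
  exact ⟨f, fun k hk => ⟨rf k hk, (rt.mul (rf k hk)).eq ((rf k hk).mul rt) (aTest_spec hk).2.2.1⟩⟩

theorem centralizer_card {t : J} (rt : Rep t elT) :
    Nat.card (Subgroup.centralizer ({t} : Set J)) = 120 := by
  obtain ⟨t', ψ, ht, hψ, rt'⟩ := exists_centralizer_hom
  obtain rfl := rep_self_eq rt rt'
  have hd : Nat.card (Multiplicative (ZMod 2) × alternatingGroup (Fin 5)) = 120 := by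
    rw [Nat.card_prod, nat_card_alternatingGroup, Nat.card_fin, Nat.card_eq_fintype_card,
      show Fintype.card (Multiplicative (ZMod 2)) = 2 from rfl]
    norm_num [Nat.factorial]
  have h1 := hd ▸ Subgroup.card_dvd_of_injective ψ hψ
  have h2 : Nat.card (Subgroup.centralizer ({t} : Set J)) ∣ 175560 :=
    card_J ▸ Subgroup.card_subgroup_dvd_card _
  have h3 := centralizer_card_le rt
  obtain ⟨m, hm⟩ := h1
  rw [hm] at h2 h3 ⊢
  have h5 : m ∣ 1463 := Nat.dvd_of_mul_dvd_mul_left (by norm_num : 0 < 120) (by simpa using h2)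
  have h6 : m ≤ 6 := by omega
  interval_cases m <;> omega

theorem centralizer_list {t : J} (rt : Rep t elT) :
    ∃ C : ℕ → J, (∀ i, i < 120 → Rep (C i) (centAt i) ∧ Commute t (C i)) ∧
      ∀ x : J, Commute t x → ∃ i, i < 120 ∧ C i = x := by
  obtain ⟨f, hf⟩ := exists_rep_aMat rt
  have hC : ∀ i, i < 120 → Rep (t ^ (i / 60) * f (i % 60)) (centAt i) ∧
      Commute t (t ^ (i / 60) * f (i % 60)) := fun i hi =>
    ⟨(rt.pow _).mul (hf _ (Nat.mod_lt _ (by norm_num))).1,
      ((Commute.refl t).pow_right _).mul_right (hf _ (Nat.mod_lt _ (by norm_num))).2⟩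
  refine ⟨fun i => t ^ (i / 60) * f (i % 60), hC, fun x hx => ?_⟩
  let φ : Fin 120 → Subgroup.centralizer ({t} : Set J) := fun i =>
    ⟨t ^ ((i : ℕ) / 60) * f ((i : ℕ) % 60),
      Subgroup.mem_centralizer_singleton_iff.2 (hC i i.2).2.eq.symm⟩
  have hinj : Function.Injective φ := by
    have hd : ∀ i l : Fin 120, (l : ℕ) < i → φ i ≠ φ l := by
      intro i l hli e
      have h := allFrom_zero cent_ok i.2
      simp only [centTest, Bool.and_eq_true] at h
      exact (hC i i.2).1.ne (hC l l.2).1 (allFrom_zero h.1.1 hli) (congrArg Subtype.val e)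
    intro i l e
    rcases lt_trichotomy (i : ℕ) l with h | h | h
    · exact absurd e.symm (hd l i h)
    · exact Fin.ext h
    · exact absurd e (hd i l h)
  have hb : Function.Bijective φ := (Nat.bijective_iff_injective_and_card φ).2
    ⟨hinj, by rw [Nat.card_fin, centralizer_card rt]⟩
  obtain ⟨i, hi⟩ := hb.2 ⟨x, Subgroup.mem_centralizer_singleton_iff.2 hx.eq.symm⟩
  exact ⟨i, i.2, congrArg Subtype.val hi⟩

theorem word2_map {F : Type*} [FunLike F J J] [MonoidHomClass F J J] (θ : F) {c g c' g' : J}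
    {C G C' G' : M7} (rc : Rep c C) (rg : Rep g G) (rc' : Rep c' C') (rg' : Rep g' G')
    (ec : θ c = c') (eg : θ g = g') (w : List Bool) :
    ∃ x : J, Rep x (word2 C G w) ∧ Rep (θ x) (word2 C' G' w) := by
  induction w with
  | nil => exact ⟨1, rep_one, (map_one θ).symm ▸ rep_one⟩
  | cons b w ih =>
    obtain ⟨x, hx, hx'⟩ := ih
    cases b
    · refine ⟨c * x, rc.mul hx, ?_⟩
      rw [map_mul, ec]
      exact rc'.mul hx'
    · refine ⟨g * x, rg.mul hx, ?_⟩
      rw [map_mul, eg]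
      exact rg'.mul hx'

theorem Rep.beq_of_eq {g h : J} {A B : M7} (hg : Rep g A) (hh : Rep h B) (e : g = h) :
    M7.beq A B = true := by
  subst e
  rw [toMat_inj hg.2 hh.2 (hg.1.symm.trans hh.1), M7.beq_self]

theorem relTest_map {F : Type*} [FunLike F J J] [MonoidHomClass F J J] (θ : F) {c g c' g' : J}
    {C G C' G' : M7} (rc : Rep c C) (rg : Rep g G) (rc' : Rep c' C') (rg' : Rep g' G')
    (ec : θ c = c') (eg : θ g = g') (h : relTest C G = true) : relTest C' G' = true := by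
  have key : ∀ (w : List Bool) (n : ℕ), M7.beq (powM (word2 C G w) n) oneM = true →
      M7.beq (powM (word2 C' G' w) n) oneM = true := by
    intro w n e
    obtain ⟨x, hx, hx'⟩ := word2_map θ rc rg rc' rg' ec eg w
    exact (hx'.pow n).beq_of_eq rep_one (by rw [← map_pow, (hx.pow n).eq rep_one e, map_one])
  simp only [relTest, Bool.and_eq_true] at h ⊢
  exact ⟨⟨⟨⟨key _ _ h.1.1.1.1, key _ _ h.1.1.1.2⟩, key _ _ h.1.1.2⟩, key _ _ h.1.2⟩, key _ _ h.2⟩

/-- Every involution is conjugate to the chosen one. -/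
theorem conj_invol {t' : J} (rt' : Rep t' elT) {x : J} (hx : x * x = 1) (hx1 : x ≠ 1) :
    ∃ h : J, h * t' * h⁻¹ = x := by
  obtain ⟨t, u, v, g, ht, hu, hv, htu, htv, huv, hgu, hgv, hgt, hind, rt, rg⟩ := exists_four
  obtain rfl := rep_self_eq rt rt'
  obtain ⟨S, hS⟩ := exists_sylow_four ht hu hv htu htv huv hind
  have hinv : g⁻¹ = g ^ 6 :=
    inv_eq_of_mul_eq_one_right (by rw [← pow_succ']; exact (rg.pow 7).eq rep_one elS_pow)
  have ru : Rep u conj1 := by
    rw [← hgu, hinv, ← M7.eq_of_beq conj_one]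
    exact (rg.mul rt).mul (rg.pow 6)
  have rv : Rep v conj2 := by
    rw [← hgv, hinv, ← M7.eq_of_beq conj_two]
    exact (rg.mul ru).mul (rg.pow 6)
  have hp : IsPGroup 2 (Subgroup.zpowers x) := IsPGroup.of_card (n := 1) (by
    rw [Nat.card_zpowers, orderOf_eq_prime (by rw [sq]; exact hx) hx1, pow_one])
  obtain ⟨P, hP⟩ := hp.exists_le_sylow
  obtain ⟨h, hh⟩ := MulAction.exists_smul_eq J P S
  have hmem : h * x * h⁻¹ ∈ (S : Subgroup J) := by
    rw [← hh, Sylow.coe_subgroup_smul]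
    exact ⟨x, hP (Subgroup.mem_zpowers x), rfl⟩
  obtain ⟨i, j, k, e⟩ := hS _ hmem
  have hk : (i : ℕ) + 2 * j + 4 * k < 8 := by omega
  have h4 := allFrom_zero four_conj_ok hk
  simp only [Bool.or_eq_true, beq_iff_eq] at h4
  rcases h4 with h0 | h0
  · exfalso
    rw [show (i : ℕ) = 0 by omega, show (j : ℕ) = 0 by omega, show (k : ℕ) = 0 by omega,
      pow_zero, pow_zero, pow_zero, one_mul, one_mul] at e
    refine hx1 ?_
    rw [show x = h⁻¹ * (h * x * h⁻¹) * h by group, ← e]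
    group
  · obtain ⟨m, -, hm⟩ := anyFrom_zero h0
    rw [show ((i : ℕ) + 2 * j + 4 * k) % 2 = i by omega,
      show ((i : ℕ) + 2 * j + 4 * k) / 2 % 2 = j by omega,
      show ((i : ℕ) + 2 * j + 4 * k) / 4 = k by omega] at hm
    have e' := ((rg.pow m).mul rt).eq
      (((rt.pow i).mul ((ru.pow j).mul (rv.pow k))).mul (rg.pow m)) hm
    rw [e] at e'
    refine ⟨h⁻¹ * g ^ m, ?_⟩
    rw [show h⁻¹ * g ^ m * t * (h⁻¹ * g ^ m)⁻¹ = h⁻¹ * (g ^ m * t) * (g ^ m)⁻¹ * h by group, e']
    group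

theorem conj_mem_inn (θ : MulAut J) : θ ∈ (MulAut.conj : J →* MulAut J).range := by
  obtain ⟨t, u, v, g, ht, hu, hv, htu, htv, huv, hgu, hgv, hgt, hind, rt, rg⟩ := exists_four
  have ru : Rep u conj1 := by
    have hinv : g⁻¹ = g ^ 6 :=
      inv_eq_of_mul_eq_one_right (by rw [← pow_succ']; exact (rg.pow 7).eq rep_one elS_pow)
    rw [← hgu, hinv, ← M7.eq_of_beq conj_one]
    exact (rg.mul rt).mul (rg.pow 6)
  have rv : Rep v conj2 := by
    have hinv : g⁻¹ = g ^ 6 :=
      inv_eq_of_mul_eq_one_right (by rw [← pow_succ']; exact (rg.pow 7).eq rep_one elS_pow)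
    rw [← hgv, hinv, ← M7.eq_of_beq conj_two]
    exact (rg.mul ru).mul (rg.pow 6)
  have ht1 : t ≠ 1 := rt.ne rep_one elT_ne
  have hu1 : u ≠ 1 := fun e => ht1 (by
    rw [show t = g⁻¹ * (g * t * g⁻¹) * g by group, hgu, e]; group)
  have hconj : ∀ x : J, x * x = 1 → x ≠ 1 → ∃ h : J, h * t * h⁻¹ = x :=
    fun x hx hx1 => conj_invol rt hx hx1
  have conj_apply : ∀ (a : J) (φ : MulAut J) (x : J),
      (MulAut.conj a * φ) x = a * φ x * a⁻¹ := fun a φ x => rfl
  -- normalise the image of `t`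
  obtain ⟨h, hh⟩ := hconj (θ t) (by rw [← map_mul, ht, map_one])
    (fun e => ht1 (θ.injective (e.trans (map_one θ).symm)))
  let θ1 : MulAut J := MulAut.conj h⁻¹ * θ
  have h1t : θ1 t = t := by
    rw [conj_apply, ← hh]; group
  obtain ⟨C, hC, hCsurj⟩ := centralizer_list rt
  obtain ⟨f, hf⟩ := exists_rep_aMat rt
  -- normalise the image of `u`
  obtain ⟨i, hi, hiu⟩ := hCsurj (θ1 u) (by
    show t * θ1 u = θ1 u * t
    conv_lhs => rw [← h1t]
    conv_rhs => rw [← h1t]
    rw [← map_mul, ← map_mul, htu])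
  obtain ⟨l, hl, hl2⟩ : ∃ l, l < 60 ∧ (f l * θ1 u * (f l)⁻¹ = u ∨ f l * θ1 u * (f l)⁻¹ = t * u) := by
    have h := allFrom_zero cent_ok hi
    simp only [centTest, Bool.and_eq_true, Bool.or_eq_true, Bool.not_eq_true'] at h
    have huu : θ1 u * θ1 u = 1 := by rw [← map_mul, hu, map_one]
    have hb := ((hC i hi).1.mul (hC i hi).1).beq_of_eq rep_one (by rw [hiu]; exact huu)
    rcases h.1.2 with ((h0 | h0) | h0) | h0
    · rw [hb] at h0; exact Bool.noConfusion h0
    · exfalso
      rw [beq_iff_eq] at h0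
      subst h0
      have e0 : Rep (C 0) oneM := by
        have := (hC 0 hi).1
        rwa [show centAt 0 = oneM from M7.eq_of_beq (by decide +kernel)] at this
      rw [rep_self_eq e0 rep_one] at hiu
      exact hu1 (θ1.injective (hiu.symm.trans (map_one θ1).symm))
    · exfalso
      have e := (hC i hi).1.eq rt h0
      rw [hiu] at e
      have : u = t := θ1.injective (e.trans h1t.symm)
      have h01 := hind 1 1 0 (by simp [this, ht])
      exact absurd h01.1 (by decide)
    · obtain ⟨l, hl, hl2⟩ := anyFrom_zero h0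
      refine ⟨l, hl, ?_⟩
      simp only [Bool.or_eq_true] at hl2
      rcases hl2 with e | e
      · left
        have := ((hf l hl).1.mul (hC i hi).1).eq (ru.mul (hf l hl).1) e
        rw [← hiu, this, mul_inv_cancel_right]
      · right
        have := ((hf l hl).1.mul (hC i hi).1).eq ((rt.mul ru).mul (hf l hl).1) e
        rw [← hiu, this, mul_inv_cancel_right]
  let θ2 : MulAut J := MulAut.conj (f l) * θ1
  have h2t : θ2 t = t := by
    rw [conj_apply, h1t, ← (hf l hl).2.eq, mul_inv_cancel_right]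
  have hcomm : ∀ x : J, Commute t x → Commute t (θ2 x) := by
    intro x hx
    show t * θ2 x = θ2 x * t
    conv_lhs => rw [← h2t]
    conv_rhs => rw [← h2t]
    rw [← map_mul, ← map_mul, hx.eq]
  obtain ⟨hgF, hF5, hF1, hFi⟩ : M7.beq (centAt genFIdx) genF = true ∧
      M7.beq (powM genF 5) oneM = true ∧ (!M7.beq genF oneM) = true ∧ genFIdx < 120 := by
    have h := genF_ok
    simp only [Bool.and_eq_true, Nat.blt_eq] at h
    exact ⟨h.1.1.1, h.1.1.2, h.1.2, h.2⟩
  have rF : Rep (C genFIdx) genF := M7.eq_of_beq hgF ▸ (hC _ hFi).1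
  -- the image of the element of order five
  obtain ⟨a, ha, rF'⟩ : ∃ a, a < 24 ∧ Rep (θ2 (C genFIdx)) (fiveAt a) := by
    obtain ⟨i', hi', e⟩ := hCsurj _ (hcomm _ (hC _ hFi).2)
    have h := allFrom_zero cent_ok hi'
    simp only [centTest, Bool.and_eq_true, Bool.or_eq_true, Bool.not_eq_true'] at h
    have hb := ((hC i' hi').1.pow 5).beq_of_eq rep_one (by
      rw [e, ← map_pow, (rF.pow 5).eq rep_one hF5, map_one])
    rcases h.2 with (h0 | h0) | h0
    · rw [hb] at h0; exact Bool.noConfusion h0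
    · exfalso
      rw [beq_iff_eq] at h0
      subst h0
      have e0 : Rep (C 0) oneM := by
        have := (hC 0 hi').1
        rwa [show centAt 0 = oneM from M7.eq_of_beq (by decide +kernel)] at this
      rw [rep_self_eq e0 rep_one] at e
      exact rF.ne rep_one hF1 (θ2.injective (e.symm.trans (map_one θ2).symm))
    · obtain ⟨a, ha, e'⟩ := anyFrom_zero h0
      exact ⟨a, ha, e ▸ (M7.eq_of_beq e' ▸ (hC i' hi').1)⟩
  -- the image of the element of order seven
  obtain ⟨b, hb, rG'⟩ : ∃ b, b < 32 ∧ Rep (θ2 g) (sevenAt b) := by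
    have e2 : θ2 g * t * (θ2 g)⁻¹ = θ2 u := by
      conv_lhs => rw [← h2t]
      rw [← map_inv, ← map_mul, ← map_mul, hgu]
    have e3 : θ2 u = g ^ 1 * t * (g ^ 1)⁻¹ ∨ θ2 u = g ^ 3 * t * (g ^ 3)⁻¹ := by
      rcases hl2 with e | e
      · exact Or.inl (by rw [pow_one, hgu]; exact e)
      · refine Or.inr ?_
        rw [show g ^ 3 * t * (g ^ 3)⁻¹ = g * (g * (g * t * g⁻¹) * g⁻¹) * g⁻¹ by
          simp only [pow_succ, pow_zero, one_mul, mul_inv_rev]; group, hgu, hgv, hgt]
        exact e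
    obtain ⟨q, hq, e4⟩ : ∃ q, q < 2 ∧
        θ2 u = g ^ (bif q == 0 then 1 else 3) * t * (g ^ (bif q == 0 then 1 else 3))⁻¹ := by
      rcases e3 with e | e
      · exact ⟨0, by norm_num, e⟩
      · exact ⟨1, by norm_num, e⟩
    obtain ⟨p, hp⟩ : ∃ p, p = g ^ (bif q == 0 then 1 else 3) := ⟨_, rfl⟩
    rw [← hp] at e4
    have hc : Commute t (p⁻¹ * θ2 g) := by
      show t * (p⁻¹ * θ2 g) = p⁻¹ * θ2 g * t
      rw [e4, mul_inv_eq_iff_eq_mul] at e2
      rw [mul_assoc p⁻¹, e2]
      group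
    obtain ⟨i', hi', e⟩ := hCsurj _ hc
    have hj : 120 * q + i' < 240 := by omega
    have rj : Rep (θ2 g) (candAt (120 * q + i')) := by
      have : θ2 g = p * C i' := by rw [e, mul_inv_cancel_left]
      rw [this, hp, candAt, show (120 * q + i') / 120 = q by omega,
        show (120 * q + i') % 120 = i' by omega]
      exact (rg.pow _).mul (hC i' hi').1
    have h := allFrom_zero cand_ok hj
    simp only [candTest, Bool.or_eq_true, Bool.not_eq_true'] at h
    have hb := (rj.pow 7).beq_of_eq rep_one (by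
      rw [← map_pow, (rg.pow 7).eq rep_one elS_pow, map_one])
    rcases h with h0 | h0
    · rw [hb] at h0; exact Bool.noConfusion h0
    · obtain ⟨b, hb, e'⟩ := anyFrom_zero h0
      exact ⟨b, hb, M7.eq_of_beq e' ▸ rj⟩
  have hrel := relTest_map θ2 rF rg rF' rG' rfl rfl rel_ok
  have hk : 32 * a + b < 768 := by omega
  have hpair := allFrom_zero pair_ok hk
  simp only [pairTest, show (32 * a + b) / 32 = a by omega, show (32 * a + b) % 32 = b by omega,
    hrel, Bool.not_true, Bool.false_or] at hpair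
  obtain ⟨k, -, hk2⟩ := anyFrom_zero hpair
  simp only [Bool.and_eq_true, Nat.blt_eq] at hk2
  obtain ⟨⟨hk0, hk1⟩, hk3⟩ := hk2
  have eF := ((hC _ hk0).1.mul rF).eq (rF'.mul (hC _ hk0).1) hk1
  have eG := ((hC _ hk0).1.mul rg).eq (rG'.mul (hC _ hk0).1) hk3
  have hgen : Subgroup.closure ({C genFIdx, g} : Set J) = ⊤ := by
    rw [eq_top_iff, ← closure_top, Subgroup.closure_le]
    have hw : ∀ w : List Bool, ∃ x ∈ Subgroup.closure ({C genFIdx, g} : Set J), Rep x (word2 genF elS w) := by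
      intro w
      induction w with
      | nil => exact ⟨1, one_mem _, rep_one⟩
      | cons c w ih =>
        obtain ⟨x, hx, rx⟩ := ih
        cases c
        · exact ⟨_ * x, mul_mem (Subgroup.subset_closure (Set.mem_insert _ _)) hx, rF.mul rx⟩
        · exact ⟨g * x, mul_mem (Subgroup.subset_closure (Set.mem_insert_of_mem _ rfl)) hx, rg.mul rx⟩
    rintro _ (rfl | rfl)
    · obtain ⟨x, hx, rx⟩ := hw gXWord
      exact rx.eq rep_sX gXWord_ok ▸ hx
    · obtain ⟨x, hx, rx⟩ := hw gYWord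
      exact rx.eq rep_sY gYWord_ok ▸ hx
  have hθ2 : θ2 = MulAut.conj (C (resIdxAt k)) := by
    have := MonoidHom.eq_of_eqOn_dense hgen (f := θ2.toMonoidHom)
      (g := (MulAut.conj (C (resIdxAt k))).toMonoidHom) (by
        rintro x (rfl | rfl)
        · show θ2 _ = _ * _ * _
          rw [eF, mul_inv_cancel_right]
        · show θ2 _ = _ * _ * _
          rw [eG, mul_inv_cancel_right])
    exact MulEquiv.ext fun x => DFunLike.congr_fun this x
  refine ⟨h⁻¹⁻¹ * (f l)⁻¹ * C (resIdxAt k), ?_⟩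
  have e : θ = (MulAut.conj h⁻¹)⁻¹ * ((MulAut.conj (f l))⁻¹ * θ2) := by
    simp only [θ2, θ1, inv_mul_cancel_left]
  rw [e, hθ2, map_mul, map_mul, map_inv, map_inv, map_inv, mul_assoc]

end Cfsg.Agent.Janko1
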