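/-
Arithmetic of packed `7 × 7` matrices over the integers modulo `11`, for certificates about `J₁`.
-/
import Cfsg.Prelude.Def_Spor_J1
import Mathlib.Algebra.BigOperators.Fin

set_option autoImplicit false

namespace Cfsg.Agent.Janko1

/-- The `k`-th digit of a packed row. -/
def dig (r k : ℕ) : ℕ := r / 1024 ^ k % 1024

/-- A matrix given by seven packed rows. -/
structure M7 where
  /-- Row 0. -/
  r0 : ℕ
  /-- Row 1. -/
  r1 : ℕ
  /-- Row 2. -/
  r2 : ℕ
  /-- Row 3. -/
  r3 : ℕ
  /-- Row 4. -/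
  r4 : ℕ
  /-- Row 5. -/
  r5 : ℕ
  /-- Row 6. -/
  r6 : ℕ

namespace M7

/-- Boolean equality. -/
def beq (A B : M7) : Bool :=
  A.r0 == B.r0 && A.r1 == B.r1 && A.r2 == B.r2 && A.r3 == B.r3 && A.r4 == B.r4 && A.r5 == B.r5 &&
    A.r6 == B.r6

theorem eq_of_beq {A B : M7} (h : beq A B = true) : A = B := by
  cases A; cases B
  simp only [beq, Bool.and_eq_true, beq_iff_eq] at h
  obtain ⟨⟨⟨⟨⟨⟨h0, h1⟩, h2⟩, h3⟩, h4⟩, h5⟩, h6⟩ := h
  subst h0 h1 h2 h3 h4 h5 h6
  rfl

theorem beq_self (A : M7) : beq A A = true := by simp [beq]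

/-- The `i`-th row. -/
def row (A : M7) : Fin 7 → ℕ := ![A.r0, A.r1, A.r2, A.r3, A.r4, A.r5, A.r6]

end M7

/-- Reduce each digit modulo eleven. -/
def norm7 (a : ℕ) : ℕ :=
  a % 1024 % 11 + 1024 * (a / 1024 % 1024 % 11) + 1048576 * (a / 1048576 % 1024 % 11) +
    1073741824 * (a / 1073741824 % 1024 % 11) + 1099511627776 * (a / 1099511627776 % 1024 % 11) +
    1125899906842624 * (a / 1125899906842624 % 1024 % 11) +
    1152921504606846976 * (a / 1152921504606846976 % 1024 % 11)

/-- A row times a matrix. -/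
def rowMul (r : ℕ) (B : M7) : ℕ :=
  norm7 (r % 1024 * B.r0 + r / 1024 % 1024 * B.r1 + r / 1048576 % 1024 * B.r2 +
    r / 1073741824 % 1024 * B.r3 + r / 1099511627776 % 1024 * B.r4 +
    r / 1125899906842624 % 1024 * B.r5 + r / 1152921504606846976 % 1024 * B.r6)

/-- The product of packed matrices. -/
def mulM (A B : M7) : M7 :=
  ⟨rowMul A.r0 B, rowMul A.r1 B, rowMul A.r2 B, rowMul A.r3 B, rowMul A.r4 B, rowMul A.r5 B,
    rowMul A.r6 B⟩

/-- A packed row with digits below eleven. -/
def okRow (r : ℕ) : Bool :=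
  decide (r % 1024 < 11) && decide (r / 1024 % 1024 < 11) && decide (r / 1048576 % 1024 < 11) &&
    decide (r / 1073741824 % 1024 < 11) && decide (r / 1099511627776 % 1024 < 11) &&
    decide (r / 1125899906842624 % 1024 < 11) && decide (r / 1152921504606846976 < 11)

/-- A packed matrix with entries below eleven. -/
def okM (A : M7) : Bool :=
  okRow A.r0 && okRow A.r1 && okRow A.r2 && okRow A.r3 && okRow A.r4 && okRow A.r5 && okRow A.r6

theorem okM_row {A : M7} (h : okM A = true) (i : Fin 7) : okRow (A.row i) = true := by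
  simp only [okM, Bool.and_eq_true] at h
  fin_cases i <;> simp [M7.row, h]

theorem okRow_dig {r : ℕ} (h : okRow r = true) (k : Fin 7) : dig r k < 11 := by
  simp only [okRow, Bool.and_eq_true, decide_eq_true_eq] at h
  fin_cases k <;> simp [dig] <;> omega

theorem row_expansion {r : ℕ} (h : okRow r = true) :
    r = dig r 0 + 1024 * dig r 1 + 1048576 * dig r 2 + 1073741824 * dig r 3 +
      1099511627776 * dig r 4 + 1125899906842624 * dig r 5 + 1152921504606846976 * dig r 6 := by
  simp only [okRow, Bool.and_eq_true, decide_eq_true_eq] at h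
  simp only [dig]
  omega

theorem dig_pack {c0 c1 c2 c3 c4 c5 c6 : ℕ} (h0 : c0 < 1024) (h1 : c1 < 1024) (h2 : c2 < 1024)
    (h3 : c3 < 1024) (h4 : c4 < 1024) (h5 : c5 < 1024) (h6 : c6 < 1024) (k : Fin 7) :
    dig (c0 + 1024 * c1 + 1048576 * c2 + 1073741824 * c3 + 1099511627776 * c4 +
      1125899906842624 * c5 + 1152921504606846976 * c6) k = ![c0, c1, c2, c3, c4, c5, c6] k := by
  fin_cases k <;> simp [dig] <;> omega

theorem dig_norm7 (a : ℕ) (k : Fin 7) : dig (norm7 a) k = dig a k % 11 := by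
  rw [norm7, dig_pack (by omega) (by omega) (by omega) (by omega) (by omega) (by omega) (by omega)]
  fin_cases k <;> simp [dig]

/-- The matrix of a packed matrix. -/
def toMat (A : M7) : Matrix (Fin 7) (Fin 7) (ZMod 11) := fun i j => (dig (A.row i) j : ZMod 11)

theorem dig_rowMul {r : ℕ} {B : M7} (hr : okRow r = true) (hB : okM B = true) (k : Fin 7) :
    dig (rowMul r B) k = (∑ j : Fin 7, dig r j * dig (B.row j) k) % 11 := by
  rw [rowMul, dig_norm7]
  congr 1
  have e : r % 1024 * B.r0 + r / 1024 % 1024 * B.r1 + r / 1048576 % 1024 * B.r2 +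
      r / 1073741824 % 1024 * B.r3 + r / 1099511627776 % 1024 * B.r4 +
      r / 1125899906842624 % 1024 * B.r5 + r / 1152921504606846976 % 1024 * B.r6 =
      (∑ j : Fin 7, dig r j * dig (B.row j) 0) + 1024 * (∑ j : Fin 7, dig r j * dig (B.row j) 1) +
        1048576 * (∑ j : Fin 7, dig r j * dig (B.row j) 2) +
        1073741824 * (∑ j : Fin 7, dig r j * dig (B.row j) 3) +
        1099511627776 * (∑ j : Fin 7, dig r j * dig (B.row j) 4) +
        1125899906842624 * (∑ j : Fin 7, dig r j * dig (B.row j) 5) +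
        1152921504606846976 * (∑ j : Fin 7, dig r j * dig (B.row j) 6) := by
    conv_lhs => rw [show B.r0 = B.row 0 from rfl, show B.r1 = B.row 1 from rfl,
      show B.r2 = B.row 2 from rfl, show B.r3 = B.row 3 from rfl, show B.r4 = B.row 4 from rfl,
      show B.r5 = B.row 5 from rfl, show B.r6 = B.row 6 from rfl,
      row_expansion (okM_row hB 0), row_expansion (okM_row hB 1), row_expansion (okM_row hB 2),
      row_expansion (okM_row hB 3), row_expansion (okM_row hB 4), row_expansion (okM_row hB 5),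
      row_expansion (okM_row hB 6)]
    simp only [Fin.sum_univ_seven]
    rw [show dig r ((0 : Fin 7) : ℕ) = r % 1024 by simp [dig],
      show dig r ((1 : Fin 7) : ℕ) = r / 1024 % 1024 from rfl,
      show dig r ((2 : Fin 7) : ℕ) = r / 1048576 % 1024 from rfl,
      show dig r ((3 : Fin 7) : ℕ) = r / 1073741824 % 1024 from rfl,
      show dig r ((4 : Fin 7) : ℕ) = r / 1099511627776 % 1024 from rfl,
      show dig r ((5 : Fin 7) : ℕ) = r / 1125899906842624 % 1024 from rfl,
      show dig r ((6 : Fin 7) : ℕ) = r / 1152921504606846976 % 1024 from rfl]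
    ring
  have hb : ∀ m : Fin 7, (∑ j : Fin 7, dig r j * dig (B.row j) m) < 1024 := fun m =>
    calc (∑ j : Fin 7, dig r j * dig (B.row j) m) ≤ ∑ _j : Fin 7, 10 * 10 :=
          Finset.sum_le_sum fun j _ => Nat.mul_le_mul (Nat.le_of_lt_succ (okRow_dig hr j))
            (Nat.le_of_lt_succ (okRow_dig (okM_row hB j) m))
      _ < 1024 := by simp
  have hb' : ∀ n : ℕ, n < 7 → (∑ j : Fin 7, dig r j * dig (B.row j) n) < 1024 :=
    fun n hn => hb ⟨n, hn⟩
  rw [e, dig_pack (hb' 0 (by omega)) (hb' 1 (by omega)) (hb' 2 (by omega)) (hb' 3 (by omega))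
    (hb' 4 (by omega)) (hb' 5 (by omega)) (hb' 6 (by omega))]
  fin_cases k <;> rfl

theorem toMat_mulM {A B : M7} (hA : okM A = true) (hB : okM B = true) :
    toMat (mulM A B) = toMat A * toMat B := by
  ext i k
  have hrow : (mulM A B).row i = rowMul (A.row i) B := by fin_cases i <;> rfl
  rw [Matrix.mul_apply]
  simp only [toMat, hrow, dig_rowMul (okM_row hA i) hB, ZMod.natCast_mod, Nat.cast_sum, Nat.cast_mul]

theorem toMat_inj {A B : M7} (hA : okM A = true) (hB : okM B = true) (h : toMat A = toMat B) :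
    A = B := by
  have hrow : ∀ i, A.row i = B.row i := by
    intro i
    have hd : ∀ j : Fin 7, dig (A.row i) j = dig (B.row i) j := fun j => by
      have h1 : (dig (A.row i) j : ZMod 11) = (dig (B.row i) j : ZMod 11) := congrFun (congrFun h i) j
      have h2 := congrArg ZMod.val h1
      rwa [ZMod.val_natCast, ZMod.val_natCast, Nat.mod_eq_of_lt (okRow_dig (okM_row hA i) j),
        Nat.mod_eq_of_lt (okRow_dig (okM_row hB i) j)] at h2
    rw [row_expansion (okM_row hA i), row_expansion (okM_row hB i)]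
    have h0 := hd 0; have h1 := hd 1; have h2 := hd 2; have h3 := hd 3
    have h4 := hd 4; have h5 := hd 5; have h6 := hd 6
    simp only [show ((0 : Fin 7) : ℕ) = 0 from rfl, show ((1 : Fin 7) : ℕ) = 1 from rfl,
      show ((2 : Fin 7) : ℕ) = 2 from rfl, show ((3 : Fin 7) : ℕ) = 3 from rfl,
      show ((4 : Fin 7) : ℕ) = 4 from rfl, show ((5 : Fin 7) : ℕ) = 5 from rfl,
      show ((6 : Fin 7) : ℕ) = 6 from rfl] at h0 h1 h2 h3 h4 h5 h6
    rw [h0, h1, h2, h3, h4, h5, h6]
  cases A; cases B
  have a0 := hrow 0; have a1 := hrow 1; have a2 := hrow 2; have a3 := hrow 3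
  have a4 := hrow 4; have a5 := hrow 5; have a6 := hrow 6
  simp only [M7.row] at a0 a1 a2 a3 a4 a5 a6
  simp_all

/-- A binary tree of data. -/
inductive Tree (α : Type) where
  | leaf : α → Tree α
  | node : Tree α → Tree α → Tree α

/-- Look up an entry of a tree of the given depth. -/
def Tree.get {α : Type} : Tree α → ℕ → ℕ → α
  | .leaf a, _, _ => a
  | .node l r, d, i => match (i / 2 ^ (d - 1)) % 2 with
    | 0 => l.get (d - 1) i
    | _ => r.get (d - 1) i

/-- All numbers below `n` starting at `lo` pass a test. -/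
def allFrom (f : ℕ → Bool) (lo : ℕ) : ℕ → Bool
  | 0 => true
  | n + 1 => f (lo + n) && allFrom f lo n

theorem allFrom_iff {f : ℕ → Bool} {lo n : ℕ} :
    allFrom f lo n = true ↔ ∀ i, lo ≤ i → i < lo + n → f i = true := by
  induction n with
  | zero => simpa [allFrom] using fun i h1 h2 => absurd h2 (by omega)
  | succ n ih =>
    rw [allFrom, Bool.and_eq_true, ih]
    constructor
    · rintro ⟨h1, h2⟩ i hi hi'
      rcases Nat.lt_or_ge i (lo + n) with h | h
      · exact h2 i hi h
      · obtain rfl : i = lo + n := by omega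
        exact h1
    · intro h
      exact ⟨h _ (by omega) (by omega), fun i hi hi' => h i hi (by omega)⟩

theorem allFrom_zero {f : ℕ → Bool} {n : ℕ} (h : allFrom f 0 n = true) {i : ℕ} (hi : i < n) :
    f i = true := allFrom_iff.mp h i (Nat.zero_le _) (by omega)

theorem allFrom_split {f : ℕ → Bool} {a b : ℕ} (h1 : allFrom f 0 a = true) (h2 : allFrom f a b = true) :
    allFrom f 0 (a + b) = true :=
  allFrom_iff.mpr fun i _ hi => by
    rcases Nat.lt_or_ge i a with h | h
    · exact allFrom_zero h1 h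
    · exact allFrom_iff.mp h2 i h (by omega)

end Cfsg.Agent.Janko1
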